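/-
Helper library (helper58): Bender–Glauberman Theorem 13.9 (`σ(M) ∩ σ(L) ≠ ∅` implies `M ∼ L`):
the common set-up (Steps 0–5 of helper24's proof, LA of helper87's proof).

Setting (`Pair M L S q`): `M`, `L` non-conjugate maximal subgroups, `q ∈ σ(M) ∩ σ(L)`, `S` a Sylow
`q`-subgroup of `G` contained in `M ⊓ L`.
-/
import Cfsg.Agent.Lib.Helper34.BG13a
import Cfsg.Agent.Lib.Helper62.HallCoprime
import Cfsg.Agent.Lib.Helper62.CoprimeBar
import Cfsg.Agent.S1403
import Cfsg.Agent.S1411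
import Cfsg.Agent.S1414
import Cfsg.Agent.S1415
import Cfsg.Agent.S1417
import Cfsg.Agent.S1422
import Cfsg.Agent.S1426
import Cfsg.Agent.S1427

set_option autoImplicit false
set_option linter.unusedSimpArgs false
set_option linter.unusedVariables false
set_option linter.style.haveILetI false
set_option linter.unusedSectionVars false

namespace Cfsg.Agent.Lib.Helper58.BG139

open Subgroup Cfsg
open Cfsg.Agent.Lib
open Cfsg.Agent.Lib.Helper24 Cfsg.Agent.Lib.Helper34 Cfsg.Agent.Lib.Helper31.BG11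
open scoped commutatorElement Pointwise

universe u

variable {G : Type u} [Group G]

/-- `M_β = O_{β(M)}(M)`. -/
abbrev bc (M : Subgroup G) : Subgroup G := piCoreOf (beta M) M

theorem ut [Finite G] (hG : IsMinSimpleOddOrder G) : UT G :=
  fun K hK hK2 hK3 => Cfsg.Agent.S1403.result hG K hK hK2 hK3

theorem h14 [Finite G] (hG : IsMinSimpleOddOrder G) : BG13.H1414 G :=
  fun L hL q hq hd hβ =>
      ⟨((Cfsg.Agent.S1414.result hG L hL).2.2.2.2 q hq hd hβ).1,
        ((Cfsg.Agent.S1414.result hG L hL).2.2.2.2 q hq hd hβ).2.1⟩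

/-! ### General lemmas -/

/-- Complementary Hall subgroups: the orders multiply to the order of the group. -/
theorem card_mul_of_hall [Finite G] {π : Set ℕ} {B H K : Subgroup G} (hB : IsPiHallOf π B K)
    (hH : IsPiHallOf {r | r.Prime ∧ r ∉ π} H K) : Nat.card B * Nat.card H = Nat.card K := by
  have e1 : Nat.card B * B.relIndex K = Nat.card K := Helper23.card_mul_relIndex hB.1
  have e2 : Nat.card H * H.relIndex K = Nat.card K := Helper23.card_mul_relIndex hH.1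
  have c1 : (Nat.card H).Coprime (Nat.card B) :=
    Nat.coprime_of_dvd fun k hk h1 h2 => (hH.2.1 k hk h1).2 (hB.2.1 k hk h2)
  have c2 : (B.relIndex K).Coprime (H.relIndex K) :=
    Nat.coprime_of_dvd fun k hk h1 h2 => by
      by_cases hkπ : k ∈ π
      · exact hB.2.2 k hk hkπ h1
      · exact hH.2.2 k hk ⟨hk, hkπ⟩ h2
  have d1 : Nat.card H ∣ B.relIndex K :=
    c1.dvd_of_dvd_mul_left (by rw [e1, ← e2]; exact Dvd.intro _ rfl)
  have d2 : B.relIndex K ∣ Nat.card H :=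
    c2.dvd_of_dvd_mul_right (by rw [e2, ← e1]; exact Dvd.intro_left _ rfl)
  rw [Nat.dvd_antisymm d1 d2, e1]

theorem bc_le (M : Subgroup G) : bc M ≤ M := Helper23.piCoreOf_le _ _

theorem bc_norm (M : Subgroup G) : M ≤ normalizer (bc M : Set G) :=
  Helper23.le_normalizer_piCoreOf _ _

theorem bc_primes [Finite G] (M : Subgroup G) {r : ℕ} (hr : r.Prime) (hd : r ∣ Nat.card (bc M)) :
    r ∈ beta M := Helper23.piCoreOf_primes _ _ r hr hd

theorem bc_hall [Finite G] (hG : IsMinSimpleOddOrder G) {M : Subgroup G} (hM : IsCoatom M) :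
    IsPiHallOf (beta M) (bc M) M := (Cfsg.Agent.S1414.result hG M hM).1

theorem beta_subset_sigma [Finite G] (hG : IsMinSimpleOddOrder G) {M : Subgroup G}
    (hM : IsCoatom M) {r : ℕ} (hr : r ∈ beta M) : r ∈ sigma M :=
  alpha_subset_sigma hG (ut hG) hM hr.1

theorem bc_le_sc [Finite G] (hG : IsMinSimpleOddOrder G) {M : Subgroup G} (hM : IsCoatom M) :
    bc M ≤ sigmaCore M :=
  Helper23.le_piCoreOf _ (bc_le M) (bc_norm M)
    (fun r hr hd => beta_subset_sigma hG hM (bc_primes M hr hd))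

/-- `r`-subgroups of `M` lie in `M_β` for `r ∈ β(M)`. -/
theorem le_bc [Finite G] (hG : IsMinSimpleOddOrder G) {M : Subgroup G} (hM : IsCoatom M)
    {r : ℕ} [hr : Fact r.Prime] (hrb : r ∈ beta M) {U : Subgroup G} (hUM : U ≤ M)
    (hU : IsPGroup r U) : U ≤ bc M :=
  le_of_normal_of_not_dvd (bc_le M) (bc_norm M) ((bc_hall hG hM).2.2 r hr.out hrb) hUM hU

/-- conjugation by an element of `M` preserves membership in `M_β`. -/
theorem conj_mem_bc {M : Subgroup G} {m b : G} (hm : m ∈ M) (hb : b ∈ bc M) :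
    m * b * m⁻¹ ∈ bc M :=
  (mem_normalizer_iff.mp (bc_norm M hm) b).mp hb

theorem mem_of_pow_mem_of_coprime {K : Subgroup G} {x : G} {m n : ℕ} (h : m.Coprime n)
    (h1 : x ^ m ∈ K) (h2 : x ^ n ∈ K) : x ∈ K := by
  have e := Nat.gcd_eq_gcd_ab m n
  rw [h.gcd_eq_one] at e
  have : x = (x ^ m) ^ (m.gcdA n) * (x ^ n) ^ (m.gcdB n) := by
    rw [← zpow_natCast x m, ← zpow_natCast x n, ← zpow_mul, ← zpow_mul, ← zpow_add, ← e]
    simp
  rw [this]
  exact mul_mem (zpow_mem h1 _) (zpow_mem h2 _)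

/-- Every `τ₁(M)`-subgroup of `M` is cyclic. -/
theorem isCyclic_of_tau1 [Finite G] (hG : IsMinSimpleOddOrder G) {M : Subgroup G}
    (hM : IsCoatom M) {K : Subgroup G} (hKM : K ≤ M)
    (hK : ∀ r : ℕ, r.Prime → r ∣ Nat.card K → r ∈ tau1 M) : IsCyclic K := by
  obtain ⟨E, hE, hKE⟩ := BG13.exists_compl_ge hG (ut hG) hM hKM (fun r hr hd => (hK r hr hd).2.1)
  have hEs : Group.IsSolvable E := MS_solvable hG (ne_top_of_le_ne_top hM.1 hE.1)
  obtain ⟨E₁, hE₁, -, hKE₁⟩ := Helper62.invariant_le_invariant_hall_aux (tau1 M) _ G ⊥ E K rfl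
    bot_le (by rw [Subgroup.card_bot]; exact Nat.coprime_one_left _) hEs hKE bot_le hK
  haveI := (Cfsg.Agent.S1415.result hG M hM E hE).2.1 E₁ hE₁
  exact isCyclic_of_surjective (Subgroup.subgroupOfEquivOfLe hKE₁)
    (Subgroup.subgroupOfEquivOfLe hKE₁).surjective

/-- For `p ∈ τ₃(M)` all `p`-subgroups of `M` lie in `M'`. -/
theorem le_commutator_of_tau3 [Finite G] (hG : IsMinSimpleOddOrder G) {M : Subgroup G}
    (hM : IsCoatom M) {p : ℕ} [hp : Fact p.Prime] (hp3 : p ∈ tau3 M) {P : Subgroup G}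
    (hPM : P ≤ M) (hP : IsPGroup p P) : P ≤ ⁅M, M⁆ := by
  obtain ⟨E, hE, hPE⟩ := BG13.exists_compl_ge hG (ut hG) hM hPM (fun r hr hd => by
    obtain ⟨k, hk⟩ := IsPGroup.iff_card.1 hP
    rw [hk] at hd
    rw [(Nat.prime_dvd_prime_iff_eq hr hp.out).mp (hr.dvd_of_dvd_pow hd)]
    exact hp3.2.1)
  have hEs : Group.IsSolvable E := MS_solvable hG (ne_top_of_le_ne_top hM.1 hE.1)
  obtain ⟨E₃, hE₃⟩ := Helper62.exists_isPiHallOf (tau3 M) E hEs
  obtain ⟨-, h1, h2⟩ := (Cfsg.Agent.S1415.result hG M hM E hE).2.2 E₃ hE₃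
  exact ((le_of_normal_of_not_dvd hE₃.1 h2 (hE₃.2.2 p hp.out hp3) hPE hP).trans h1).trans
    (Subgroup.commutator_mono hE.1 hE.1)

/-- S1427 in ambient form. -/
theorem prime_action' [Finite G] (hG : IsMinSimpleOddOrder G) {M : Subgroup G} (hM : IsCoatom M)
    {p : ℕ} [hp : Fact p.Prime] (hpσ : p ∉ sigma M) {P : Subgroup G} (hP : IsSylowIn p P M)
    (hPc : IsCyclic P) {x : G} (hx : x ∈ P) (hx1 : x ≠ 1) :
    sigmaCore M ⊓ centralizer ({x} : Set G) = sigmaCore M ⊓ centralizer (P : Set G) := by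
  obtain ⟨E, hE, hPE⟩ := BG13.exists_compl_ge hG (ut hG) hM hP.1 (fun r hr hd => by
    obtain ⟨k, hk⟩ := IsPGroup.iff_card.1 hP.2.1
    rw [hk] at hd
    rw [(Nat.prime_dvd_prime_iff_eq hr hp.out).mp (hr.dvd_of_dvd_pow hd)]
    exact hpσ)
  have hPsE : IsSylowIn p P E := hP.of_le hPE hE.1
  have e : ((hPsE.toSylow : Subgroup E)).map E.subtype = P := by
    rw [hPsE.coe_toSylow, Subgroup.subgroupOf_map_subtype, inf_eq_left.2 hPE]
  have h1 := Cfsg.Agent.S1427.result hG M hM E hE p hPsE.toSylow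
    (by
      rw [hPsE.coe_toSylow]
      intro hb
      apply hx1
      have : (⟨x, hPE hx⟩ : E) ∈ P.subgroupOf E := Subgroup.mem_subgroupOf.mpr hx
      rw [hb, mem_bot] at this
      exact congrArg Subtype.val this)
    (by
      rw [hPsE.coe_toSylow]
      exact isCyclic_of_surjective (Subgroup.subgroupOfEquivOfLe hPE).symm
        (Subgroup.subgroupOfEquivOfLe hPE).symm.surjective)
  rw [e] at h1
  exact h1 x hx hx1

/-- `π₁`: the primes dividing `|N(S) : C(S)|`. -/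
def pi1 (S : Subgroup G) : Set ℕ :=
  {p | p.Prime ∧ p ∣ (centralizer (S : Set G)).relIndex (normalizer (S : Set G))}

/-! ### The setting -/

/-- Two non-conjugate maximal subgroups with a common prime `q` in their `σ`-sets, and a common
Sylow `q`-subgroup `S` (a Sylow subgroup of `G`). -/
structure Pair (M L S : Subgroup G) (q : ℕ) : Prop where
  hM : IsCoatom M
  hL : IsCoatom L
  hnc : ∀ g, M ≠ cj g L
  hqM : q ∈ sigma M
  hqL : q ∈ sigma L
  hS : IsSylowIn q S ⊤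
  hSM : S ≤ M
  hSL : S ≤ L

namespace Pair

variable {M L S : Subgroup G} {q : ℕ}

theorem symm (h : Pair M L S q) : Pair L M S q where
  hM := h.hL
  hL := h.hM
  hnc := fun g hg => h.hnc g⁻¹ (by rw [hg, cj_inv_cj])
  hqM := h.hqL
  hqL := h.hqM
  hS := h.hS
  hSM := h.hSL
  hSL := h.hSM

theorem prime (h : Pair M L S q) : q.Prime := h.hqM.1

theorem ne (h : Pair M L S q) : M ≠ L := fun e => h.hnc 1 (by rw [cj_one]; exact e)

theorem sylM (h : Pair M L S q) : IsSylowIn q S M := h.hS.of_le h.hSM le_top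

variable [Finite G]

theorem norm_le (h : Pair M L S q) : normalizer (S : Set G) ≤ M := by
  haveI : Fact q.Prime := ⟨h.prime⟩
  exact sigma_normalizer_le h.hqM h.sylM

theorem alpha_not_sigma (h : Pair M L S q) (hG : IsMinSimpleOddOrder G) {r : ℕ}
    (hr : r ∈ alpha M) : r ∉ sigma L := fun hrL => by
  obtain ⟨g, hg⟩ := BG13.conj_of_alpha_sigma hG (ut hG) h.hM h.hL hr hrL
  exact h.symm.hnc g hg

theorem not_beta (h : Pair M L S q) (hG : IsMinSimpleOddOrder G) : q ∉ beta M :=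
  fun hq => h.alpha_not_sigma hG hq.1 h.hqL

theorem S_le_sc (h : Pair M L S q) (hG : IsMinSimpleOddOrder G) : S ≤ sigmaCore M := by
  haveI : Fact q.Prime := ⟨h.prime⟩
  exact le_sc hG (ut hG) h.hM h.hqM h.hSM h.hS.2.1

theorem S_comm (h : Pair M L S q) (hG : IsMinSimpleOddOrder G) : IsMulCommutative S := by
  haveI : Fact q.Prime := ⟨h.prime⟩
  by_contra hna
  have hU := Cfsg.Agent.S1422.result hG q S h.hS.2.1 hna
  exact h.ne (eq_of_inUniqueMaximal hU h.hL h.hSL h.hM h.hSM)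

theorem S_le_cent (h : Pair M L S q) (hG : IsMinSimpleOddOrder G) :
    S ≤ centralizer (S : Set G) := by
  have hc := h.S_comm hG
  intro x hx
  rw [mem_centralizer_iff]
  intro y hy
  exact congrArg Subtype.val (hc.is_comm.comm (⟨y, hy⟩ : S) ⟨x, hx⟩)

/-- `M_β ⊓ L_σ = 1`. -/
theorem bc_inf_sc (h : Pair M L S q) (hG : IsMinSimpleOddOrder G) : bc M ⊓ sigmaCore L = ⊥ :=
  (Subgroup.disjoint_of_coprime_natCard (Nat.coprime_of_dvd fun k hk h1 h2 =>
    h.alpha_not_sigma hG (bc_primes M hk h1).1 (sc_primes L hk h2))).eq_bot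

/-- **Step 1.** `M = M_β N_G(S)`. -/
theorem exists_mul (h : Pair M L S q) (hG : IsMinSimpleOddOrder G) {m : G} (hm : m ∈ M) :
    ∃ b ∈ bc M, ∃ n ∈ normalizer (S : Set G), m = b * n := by
  haveI : Fact q.Prime := ⟨h.prime⟩
  have hU := ut hG
  obtain ⟨H, hH, hnil⟩ := (Cfsg.Agent.S1414.result hG M h.hM).2.2.2.1
  obtain ⟨S1, hS1, -⟩ := exists_isSylowIn_ge (bot_le : (⊥ : Subgroup G) ≤ H)
    (IsPGroup.of_bot (p := q))
  have hS1σ : IsSylowIn q S1 (sigmaCore M) :=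
    isSylowIn_of_normal_hall hH.1 (hH.2.2 q h.prime ⟨h.prime, h.not_beta hG⟩) hS1
  have hSσ : IsSylowIn q S (sigmaCore M) := h.hS.of_le (h.S_le_sc hG) le_top
  obtain ⟨n, hn, hnS⟩ := isSylowIn_exists_cj_eq hSσ hS1σ
  have hHN : H ≤ normalizer (S1 : Set G) :=
    BG13.le_normalizer_of_sylow_nilpotent (L := H) le_normalizer hnil hS1
  have hBσ : IsPiHallOf (beta M) (bc M) (sigmaCore M) := by
    refine ⟨bc_le_sc hG h.hM, (bc_hall hG h.hM).2.1, fun r hr hrb hd => ?_⟩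
    apply (bc_hall hG h.hM).2.2 r hr hrb
    rw [← relIndex_mul_relIndex _ _ _ (bc_le_sc hG h.hM) (sc_le M)]
    exact Dvd.dvd.mul_right hd _
  have hcompl : IsComplIn (bc M) H (sigmaCore M) := by
    apply BG13.isComplIn_of_card hBσ.1 hH.1
    · exact Nat.coprime_of_dvd fun k hk h1 h2 => (hH.2.1 k hk h2).2 (hBσ.2.1 k hk h1)
    · exact card_mul_of_hall hBσ hH
  -- every element of `M_σ` is in `M_β N(S)`
  have key : ∀ y ∈ sigmaCore M, ∃ b ∈ bc M, ∃ k ∈ normalizer (S : Set G), y = b * k := by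
    intro y hy
    have hy' : n⁻¹ * y * n ∈ sigmaCore M := mul_mem (mul_mem (inv_mem hn) hy) hn
    obtain ⟨b, hb, k, hk, e⟩ := hcompl.2.2.2 _ hy'
    refine ⟨n * b * n⁻¹, conj_mem_bc (sc_le M hn) hb, n * k * n⁻¹, ?_, ?_⟩
    · rw [← hnS, normalizer_map_conj]
      exact conj_mem_map_conj (hHN hk)
    · have : y = n * (n⁻¹ * y * n) * n⁻¹ := by group
      rw [this, e]; group
  -- Frattini
  have h1 : cj m S ≤ sigmaCore M := by
    calc cj m S ≤ cj m (sigmaCore M) := cj_mono m (h.S_le_sc hG)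
      _ = sigmaCore M := map_conj_eq_self_of_mem_normalizer (sc_norm M hm)
  have h2 : IsSylowIn q (cj m S) (sigmaCore M) :=
    isSylowIn_of_card h1 (by rw [card_map_conj, hSσ.card_eq])
  obtain ⟨x, hx, hxS⟩ := isSylowIn_exists_cj_eq hSσ h2
  rw [cj_cj] at hxS
  have h3 : x * m ∈ normalizer (S : Set G) := mem_normalizer_of_map_conj_eq hxS
  obtain ⟨b, hb, k, hk, e⟩ := key x⁻¹ (inv_mem hx)
  refine ⟨b, hb, k * (x * m), mul_mem hk h3, ?_⟩
  rw [← mul_assoc, ← e]; group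

/-- `M_β ⊓ L ≤ C(S)`. -/
theorem bc_inf_le_cent (h : Pair M L S q) (hG : IsMinSimpleOddOrder G) :
    bc M ⊓ L ≤ centralizer (S : Set G) := by
  rintro b ⟨hb, hbL⟩
  rw [mem_centralizer_iff]
  intro s hs
  have h1 : s * b * s⁻¹ * b⁻¹ ∈ bc M := mul_mem (conj_mem_bc (h.hSM hs) hb) (inv_mem hb)
  have h2 : s * (b * s⁻¹ * b⁻¹) ∈ sigmaCore L :=
    mul_mem (h.symm.S_le_sc hG hs)
      ((mem_normalizer_iff.mp (sc_norm L hbL) s⁻¹).mp (inv_mem (h.symm.S_le_sc hG hs)))
  have h3 : s * b * s⁻¹ * b⁻¹ ∈ bc M ⊓ sigmaCore L := ⟨h1, by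
    have : s * b * s⁻¹ * b⁻¹ = s * (b * s⁻¹ * b⁻¹) := by group
    rw [this]; exact h2⟩
  rw [h.bc_inf_sc hG, mem_bot] at h3
  have : s * b = (s * b * s⁻¹ * b⁻¹) * (b * s) := by group
  rw [this, h3, one_mul]

/-- **Step 2.** `M ⊓ L = N_G(S)`. -/
theorem inf_eq (h : Pair M L S q) (hG : IsMinSimpleOddOrder G) :
    M ⊓ L = normalizer (S : Set G) := by
  apply le_antisymm _ (le_inf h.norm_le h.symm.norm_le)
  rintro d ⟨hdM, hdL⟩
  obtain ⟨b, hb, n, hn, rfl⟩ := h.exists_mul hG hdM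
  have hbL : b ∈ L := by
    have : b = b * n * n⁻¹ := by group
    rw [this]
    exact mul_mem hdL (inv_mem (h.symm.norm_le hn))
  exact mul_mem (centralizer_le_normalizer' S (h.bc_inf_le_cent hG ⟨hb, hbL⟩)) hn

/-- **Step 3.** `M_β ⊓ L = C_{M_β}(S)`. -/
theorem bc_inf_eq (h : Pair M L S q) (hG : IsMinSimpleOddOrder G) :
    bc M ⊓ L = bc M ⊓ centralizer (S : Set G) :=
  le_antisymm (le_inf inf_le_left (h.bc_inf_le_cent hG))
    (le_inf inf_le_left (inf_le_right.trans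
      ((centralizer_le_normalizer' S).trans h.symm.norm_le)))

theorem not_bc_le (h : Pair M L S q) (hG : IsMinSimpleOddOrder G) : ¬ bc M ≤ L := by
  intro hle
  have h1 : M ≤ L := by
    intro m hm
    obtain ⟨b, hb, n, hn, rfl⟩ := h.exists_mul hG hm
    exact mul_mem (hle hb) (h.symm.norm_le hn)
  rcases eq_or_lt_of_le h1 with e | hlt
  · exact h.ne e
  · exact h.hL.1 (h.hM.2 L hlt)

theorem bc_ne_bot (h : Pair M L S q) (hG : IsMinSimpleOddOrder G) : bc M ≠ ⊥ := fun e =>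
  h.not_bc_le hG (by rw [e]; exact bot_le)

/-- `q`-subgroups of `N(S)` lie in `S`. -/
theorem le_S (h : Pair M L S q) {U : Subgroup G} (hUN : U ≤ normalizer (S : Set G))
    (hU : IsPGroup q U) : U ≤ S := by
  haveI : Fact q.Prime := ⟨h.prime⟩
  exact le_of_normal_of_not_dvd le_normalizer le_rfl (h.hS.of_le le_normalizer le_top).2.2 hUN hU

/-- **Step 4(a).** `N(S) ⊓ M' ≤ C(S)`. -/
theorem norm_inf_commutator_le (h : Pair M L S q) (hG : IsMinSimpleOddOrder G) :
    normalizer (S : Set G) ⊓ ⁅M, M⁆ ≤ centralizer (S : Set G) := by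
  haveI : Fact q.Prime := ⟨h.prime⟩
  rintro x ⟨hxN, hxM⟩
  obtain ⟨m, a, hm, hma⟩ := exists_pPart q x
  have hcop : m.Coprime (q ^ a) :=
    (((Nat.Prime.coprime_iff_not_dvd h.prime).2 hm).symm).pow_right a
  apply mem_of_pow_mem_of_coprime hcop
  · -- the `q`-part lies in `S`
    apply h.S_le_cent hG
    have hpg : IsPGroup q (zpowers (x ^ m)) := by
      rw [IsPGroup.iff_card]
      obtain ⟨j, -, hj⟩ := (Nat.dvd_prime_pow h.prime).1 (orderOf_dvd_of_pow_eq_one hma)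
      exact ⟨j, by rw [Nat.card_zpowers, hj]⟩
    exact h.le_S (zpowers_le.2 (pow_mem hxN m)) hpg (mem_zpowers _)
  · -- the `q'`-part
    have hd : q ∣ Nat.card M := h.hqM.2.1
    have hc := ((Cfsg.Agent.S1414.result hG M h.hM).2.2.2.2 q h.prime hd (h.not_beta hG)).1
    have hY : ¬ q ∣ Nat.card (zpowers (x ^ q ^ a)) := by
      rw [Nat.card_zpowers]
      intro hq
      apply hm
      apply hq.trans
      apply orderOf_dvd_of_pow_eq_one
      rw [← pow_mul, mul_comm, pow_mul]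
      exact hma
    have h1 := BG13.comm_eq_bot_of_normalPComplement (BG13.le_normalizer_commutator_self M) hc
      h.hSM h.hS.2.1 (zpowers_le.2 (pow_mem hxM _)) hY (zpowers_le.2 (pow_mem hxN _))
    rw [Subgroup.commutator_comm, Subgroup.commutator_eq_bot_iff_le_centralizer] at h1
    exact h1 (mem_zpowers _)

/-- **Step 4(b).** A complement `V` of `S` in `N(S)`: `S = [S, V]` and `C_S(V) = 1`. -/
theorem exists_compl (h : Pair M L S q) (hG : IsMinSimpleOddOrder G) :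
    ∃ V : Subgroup G, IsComplIn S V (normalizer (S : Set G)) ∧ ¬ q ∣ Nat.card V ∧
      ⁅S, V⁆ = S ∧ S ⊓ centralizer (V : Set G) = ⊥ := by
  haveI : Fact q.Prime := ⟨h.prime⟩
  have hSN : IsSylowIn q S (normalizer (S : Set G)) := h.hS.of_le le_normalizer le_top
  obtain ⟨k, hk⟩ := IsPGroup.iff_card.1 h.hS.2.1
  have hcop : (Nat.card S).Coprime (S.relIndex (normalizer (S : Set G))) := by
    rw [hk]
    exact ((Nat.Prime.coprime_iff_not_dvd h.prime).2 hSN.2.2).pow_left k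
  obtain ⟨V, hVN, hVc, hVs⟩ := Helper1.sz_exists_rel S (normalizer (S : Set G)) le_normalizer
    le_rfl hcop
  have hcompl : IsComplIn S V (normalizer (S : Set G)) := by
    apply BG13.isComplIn_of_card le_normalizer hVN
    · rw [hVc]; exact hcop
    · rw [hVc]; exact Helper23.card_mul_relIndex le_normalizer
  have hidx : ¬ q ∣ S.index := by
    have := h.hS.2.2
    rwa [Subgroup.relIndex_top_right] at this
  have h1 := (Cfsg.Agent.S1411.result hG q (h.hS.2.1.toSylow hidx) V hcompl).1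
  have h2 : ⁅S, V⁆ = S := h1.symm
  refine ⟨V, hcompl, by rw [hVc]; exact hSN.2.2, h2, ?_⟩
  rw [eq_bot_iff]
  apply Helper62.inf_centralizer_le_of_commutator_eq V S ⊥ hVN (by rw [hVc]; exact hcop.symm)
    _ _ _ h2
  · intro x _
    rw [mem_normalizer_iff]
    intro y
    simp [mem_bot]
  · intro x _
    rw [mem_normalizer_iff]
    intro y
    simp [mem_bot]
  · rw [le_bot_iff, Subgroup.commutator_eq_bot_iff_le_centralizer]
    exact h.S_le_cent hG

/-- `C_S(N(S)) = 1`. -/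
theorem S_inf_cent_norm (h : Pair M L S q) (hG : IsMinSimpleOddOrder G) :
    S ⊓ centralizer ((normalizer (S : Set G) : Subgroup G) : Set G) = ⊥ := by
  obtain ⟨V, hV, -, -, h1⟩ := h.exists_compl hG
  rw [eq_bot_iff, ← h1]
  exact inf_le_inf_left _ (centralizer_le (by exact_mod_cast hV.2.1))

theorem S_ne_bot (h : Pair M L S q) : S ≠ ⊥ := by
  haveI : Fact q.Prime := ⟨h.prime⟩
  intro e
  have h1 := h.sylM.card_eq
  rw [e, Subgroup.card_bot] at h1
  have h2 : (Nat.card M).factorization q ≠ 0 := by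
    intro h0
    rcases (Nat.factorization_eq_zero_iff _ _).1 h0 with h3 | h3 | h3
    · exact h3 h.prime
    · exact h3 h.hqM.2.1
    · exact Nat.card_pos.ne' h3
  exact absurd h1.symm (Nat.one_lt_pow h2 h.prime.one_lt).ne'

/-- `|M : N(S)|` divides `|M_β|`. -/
theorem relIndex_dvd (h : Pair M L S q) (hG : IsMinSimpleOddOrder G) :
    (normalizer (S : Set G)).relIndex M ∣ Nat.card (bc M) := by
  haveI : ((bc M).subgroupOf M).Normal :=
    (Subgroup.normal_subgroupOf_iff_le_normalizer (bc_le M)).2 (bc_norm M)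
  have h1 := Cfsg.Agent.S3703.index_dvd_card_of_sup_eq_top
    ((normalizer (S : Set G)).subgroupOf M) ((bc M).subgroupOf M) (by
      rw [eq_top_iff]
      rintro ⟨m, hm⟩ -
      obtain ⟨b, hb, n, hn, e⟩ := h.exists_mul hG hm
      have : (⟨m, hm⟩ : M) = ⟨b, bc_le M hb⟩ * ⟨n, h.norm_le hn⟩ := Subtype.ext e
      rw [this]
      exact mul_mem (mem_sup_right (Subgroup.mem_subgroupOf.mpr hb))
        (mem_sup_left (Subgroup.mem_subgroupOf.mpr hn)))
  rwa [Helper1.card_subgroupOf (bc_le M)] at h1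

/-- For `p ∉ β(M)`, Sylow `p`-subgroups of `N(S)` are Sylow subgroups of `M`. -/
theorem sylow_of_norm (h : Pair M L S q) (hG : IsMinSimpleOddOrder G) {p : ℕ}
    [hp : Fact p.Prime] (hpb : p ∉ beta M) {P : Subgroup G}
    (hP : IsSylowIn p P (normalizer (S : Set G))) : IsSylowIn p P M :=
  isSylowIn_of_normal_hall h.norm_le
    (fun hd => hpb (bc_primes M hp.out (hd.trans (h.relIndex_dvd hG)))) hP

theorem not_tau2 (h : Pair M L S q) (hG : IsMinSimpleOddOrder G) {p : ℕ} : p ∉ tau2 M := by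
  intro hp
  haveI : Fact p.Prime := ⟨hp.1⟩
  obtain ⟨A, hA⟩ := exists_elemAb_sq hp.2.2.1 hp.2.2.2
  have hnil := (Cfsg.Agent.S1417.result hG M h.hM p hp A hA).1
  obtain ⟨g, hg⟩ := BG13.conj_of_sigma_sigma_nilpotent hG (ut hG) h.hM h.hL hnil h.hqM h.hqL
  exact h.symm.hnc g hg

/-- **Step 5(a).** A `p`-subgroup of `N(S)` that does not centralize `S` has `p ∈ τ₁(M)`. -/
theorem tau1_of_not_cent (h : Pair M L S q) (hG : IsMinSimpleOddOrder G) {p : ℕ}
    [hp : Fact p.Prime] {P : Subgroup G} (hPN : P ≤ normalizer (S : Set G)) (hP : IsPGroup p P)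
    (hPS : ¬ P ≤ centralizer (S : Set G)) : p ∈ tau1 M := by
  have hPM : P ≤ M := hPN.trans h.norm_le
  have hσ : p ∉ sigma M := by
    intro hσ
    obtain ⟨P0, hP0, hPP0⟩ := exists_isSylowIn_ge hPM hP
    exact hPS ((le_inf hPN (hPP0.trans
      (sigma_sylow_le_commutator hG (ut hG) h.hM hσ hP0))).trans (h.norm_inf_commutator_le hG))
  have h3 : p ∉ tau3 M := fun h3 =>
    hPS ((le_inf hPN (le_commutator_of_tau3 hG h.hM h3 hPM hP)).trans
      (h.norm_inf_commutator_le hG))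
  have hr2 : PRankLE p 2 M := by
    by_contra hr
    exact hσ (alpha_subset_sigma hG (ut hG) h.hM ⟨hp.out, hr⟩)
  have hr1 : PRankLE p 1 M := by
    by_contra hr
    exact h.not_tau2 hG ⟨hp.out, hσ, hr2, hr⟩
  have hd : p ∣ Nat.card M := by
    have h1 : p ∣ Nat.card P := by
      rcases hP.card_eq_or_dvd with h1 | h1
      · exfalso
        apply hPS
        rw [(Subgroup.card_eq_one).1 h1]
        exact bot_le
      · exact h1
    exact h1.trans (card_dvd_of_le hPM)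
  exact ⟨hp.out, hσ, hd, fun hd' => h3 ⟨hp.out, hσ, hd', hr1⟩, hr1⟩

/-- A Sylow `p`-subgroup of `N(S)`, `p ∈ π₁`, does not centralize `S`. -/
theorem not_le_cent_of_pi1 (h : Pair M L S q) {p : ℕ} (hp : p ∈ pi1 S) {P : Subgroup G}
    (hP : IsSylowIn p P (normalizer (S : Set G))) : ¬ P ≤ centralizer (S : Set G) := by
  intro hle
  apply hP.2.2
  rw [← relIndex_mul_relIndex P _ _ hle (centralizer_le_normalizer' S)]
  exact Dvd.dvd.mul_left hp.2 _

/-- **Step 5(a').** `π₁ ⊆ τ₁(M)`. -/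
theorem pi1_tau1 (h : Pair M L S q) (hG : IsMinSimpleOddOrder G) {p : ℕ} (hp : p ∈ pi1 S) :
    p ∈ tau1 M := by
  haveI : Fact p.Prime := ⟨hp.1⟩
  obtain ⟨P, hP, -⟩ := exists_isSylowIn_ge (bot_le : (⊥ : Subgroup G) ≤ normalizer (S : Set G))
    (IsPGroup.of_bot (p := p))
  exact h.tau1_of_not_cent hG hP.1 hP.2.1 (h.not_le_cent_of_pi1 hp hP)

theorem pi1_ne_q (h : Pair M L S q) (hG : IsMinSimpleOddOrder G) {p : ℕ} (hp : p ∈ pi1 S) :
    p ≠ q := fun e => (h.pi1_tau1 hG hp).2.1 (e ▸ h.hqM)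

theorem pi1_not_beta (h : Pair M L S q) (hG : IsMinSimpleOddOrder G) {p : ℕ} (hp : p ∈ pi1 S) :
    p ∉ beta M := fun hb => (h.pi1_tau1 hG hp).2.1 (beta_subset_sigma hG h.hM hb)

theorem pi1_nonempty (h : Pair M L S q) (hG : IsMinSimpleOddOrder G) : (pi1 S).Nonempty := by
  by_contra hne
  have h1 : (centralizer (S : Set G)).relIndex (normalizer (S : Set G)) = 1 := by
    by_contra h1
    obtain ⟨p, hp, hd⟩ := Nat.exists_prime_and_dvd h1
    exact hne ⟨p, hp, hd⟩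
  rw [Subgroup.relIndex_eq_one] at h1
  apply h.S_ne_bot
  rw [eq_bot_iff, ← h.S_inf_cent_norm hG]
  refine le_inf le_rfl ?_
  rw [le_centralizer_iff]
  exact h1

/-- **Step 5(b).** A Hall `π₁`-subgroup `W` of `N(S)` is cyclic, `N(S) = C(S) W`, `C_S(W) = 1`. -/
theorem hall_pi1 (h : Pair M L S q) (hG : IsMinSimpleOddOrder G) {W : Subgroup G}
    (hW : IsPiHallOf (pi1 S) W (normalizer (S : Set G))) :
    IsCyclic W ∧ centralizer (S : Set G) ⊔ W = normalizer (S : Set G) ∧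
      S ⊓ centralizer (W : Set G) = ⊥ := by
  have h1 : IsCyclic W := isCyclic_of_tau1 hG h.hM (hW.1.trans h.norm_le)
    (fun r hr hd => h.pi1_tau1 hG (hW.2.1 r hr hd))
  have h2 : centralizer (S : Set G) ⊔ W = normalizer (S : Set G) := by
    apply BG13.eq_of_forall_not_dvd_relIndex (sup_le (centralizer_le_normalizer' S) hW.1)
    intro r hr hd
    by_cases hrπ : r ∈ pi1 S
    · exact hW.2.2 r hr hrπ (hd.trans (Subgroup.relIndex_dvd_of_le_left _ le_sup_right))
    · exact hrπ ⟨hr, hd.trans (Subgroup.relIndex_dvd_of_le_left _ le_sup_left)⟩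
  refine ⟨h1, h2, ?_⟩
  rw [eq_bot_iff, ← h.S_inf_cent_norm hG, ← h2]
  rintro x ⟨hxS, hxW⟩
  refine ⟨hxS, ?_⟩
  have h3 : centralizer (S : Set G) ⊔ W ≤ centralizer ({x} : Set G) := by
    apply sup_le
    · exact centralizer_le (by simpa using hxS)
    · intro w hw
      rw [mem_centralizer_iff]
      intro y hy
      rw [Set.mem_singleton_iff] at hy
      rw [hy]
      exact ((mem_centralizer_iff.mp hxW) w hw).symm
  show x ∈ centralizer ((centralizer (S : Set G) ⊔ W : Subgroup G) : Set G)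
  rw [mem_centralizer_iff]
  intro y hy
  exact ((mem_centralizer_iff.mp (h3 hy)) x rfl).symm

theorem exists_hall_pi1 (h : Pair M L S q) (hG : IsMinSimpleOddOrder G) :
    ∃ W, IsPiHallOf (pi1 S) W (normalizer (S : Set G)) :=
  Helper62.exists_isPiHallOf (pi1 S) _
    (MS_solvable hG (ne_top_of_le_ne_top h.hM.1 h.norm_le))

/-- **Step 5(c).** For `p ∈ π₁` a Sylow `p`-subgroup `P` of `N(S)` is a cyclic Sylow subgroup of
`M`, and `C_{M_σ}(x) = C_{M_σ}(P)` for `1 ≠ x ∈ P`. -/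
theorem sylow_pi1 (h : Pair M L S q) (hG : IsMinSimpleOddOrder G) {p : ℕ} [hpp : Fact p.Prime]
    (hp : p ∈ pi1 S) {P : Subgroup G} (hP : IsSylowIn p P (normalizer (S : Set G))) :
    IsSylowIn p P M ∧ IsCyclic P ∧ ∀ x ∈ P, x ≠ 1 →
      sigmaCore M ⊓ centralizer ({x} : Set G) = sigmaCore M ⊓ centralizer (P : Set G) := by
  have h1 : IsSylowIn p P M := h.sylow_of_norm hG (h.pi1_not_beta hG hp) hP
  have h2 : IsCyclic P := isCyclic_of_tau1 hG h.hM h1.1 (fun r hr hd => by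
    obtain ⟨k, hk⟩ := IsPGroup.iff_card.1 hP.2.1
    rw [hk] at hd
    rw [(Nat.prime_dvd_prime_iff_eq hr hpp.out).mp (hr.dvd_of_dvd_pow hd)]
    exact h.pi1_tau1 hG hp)
  exact ⟨h1, h2, fun x hx hx1 => prime_action' hG h.hM (h.pi1_tau1 hG hp).2.1 h1 h2 hx hx1⟩

/-- `C_S(x) = C_S(P) ≠ S` for `1 ≠ x ∈ P`, `P` a Sylow `p`-subgroup of `N(S)`, `p ∈ π₁`. -/
theorem S_inf_cent_pi1 (h : Pair M L S q) (hG : IsMinSimpleOddOrder G) {p : ℕ}
    [hpp : Fact p.Prime] (hp : p ∈ pi1 S) {P : Subgroup G}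
    (hP : IsSylowIn p P (normalizer (S : Set G))) {x : G} (hx : x ∈ P) (hx1 : x ≠ 1) :
    S ⊓ centralizer ({x} : Set G) = S ⊓ centralizer (P : Set G) ∧
      S ⊓ centralizer ({x} : Set G) ≠ S := by
  have h1 := (h.sylow_pi1 hG hp hP).2.2 x hx hx1
  have h2 : S ⊓ centralizer ({x} : Set G) = S ⊓ centralizer (P : Set G) := by
    have e : ∀ K : Subgroup G, S ⊓ K = S ⊓ (sigmaCore M ⊓ K) := fun K => by
      rw [← inf_assoc, inf_eq_left.2 (h.S_le_sc hG)]
    rw [e, h1, ← e]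
  refine ⟨h2, fun h3 => ?_⟩
  rw [h2, inf_eq_left, le_centralizer_iff] at h3
  exact h.not_le_cent_of_pi1 hp hP h3

end Pair

/-! ### Step 0: existence of pairs -/

section exist

variable [Finite G]

theorem dvd_card_of_ne_bot {q : ℕ} [Fact q.Prime] {S : Subgroup G} (hS : IsPGroup q S)
    (hS1 : S ≠ ⊥) : q ∣ Nat.card S := by
  rcases hS.card_eq_or_dvd with h1 | h1
  · exact absurd ((Subgroup.card_eq_one).1 h1) hS1
  · exact h1

/-- A maximal subgroup containing the normalizer of a nontrivial Sylow `q`-subgroup of `G`. -/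
theorem mem_sigma_of_norm_le {q : ℕ} [Fact q.Prime] {M S : Subgroup G} (hS : IsSylowIn q S ⊤)
    (hS1 : S ≠ ⊥) (hN : normalizer (S : Set G) ≤ M) : q ∈ sigma M :=
  mem_sigma_iff.2 ⟨(dvd_card_of_ne_bot hS.2.1 hS1).trans (card_dvd_of_le (le_normalizer.trans hN)),
    S, hS.of_le (le_normalizer.trans hN) le_top, hN⟩

/-- First half of BG 13.9: every prime divisor of `|G|` lies in some `σ(M)`. -/
theorem exists_sigma (hG : IsMinSimpleOddOrder G) {p : ℕ} (hp : p.Prime) (hd : p ∣ Nat.card G) :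
    ∃ M : Subgroup G, IsCoatom M ∧ p ∈ sigma M := by
  haveI : Fact p.Prime := ⟨hp⟩
  obtain ⟨P, hP, -⟩ := exists_isSylowIn_ge (bot_le : (⊥ : Subgroup G) ≤ ⊤)
    (IsPGroup.of_bot (p := p))
  have hP1 : P ≠ ⊥ := by
    intro e
    apply hP.2.2
    rw [e, Subgroup.relIndex_bot_left, Subgroup.card_top]
    exact hd
  obtain ⟨M, hM, hNM⟩ := exists_coatom_ge
    (MS_normalizer_ne_top hG hP1 (MS_isPGroup_ne_top hG hP.2.1))
  exact ⟨M, hM, mem_sigma_of_norm_le hP hP1 hNM⟩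

/-- Any two distinct maximal subgroups containing `N(S)` form a pair. -/
theorem Pair.of_norm_le {q : ℕ} [Fact q.Prime] {M L S : Subgroup G} (hM : IsCoatom M)
    (hL : IsCoatom L) (hne : M ≠ L) (hS : IsSylowIn q S ⊤) (hS1 : S ≠ ⊥)
    (hNM : normalizer (S : Set G) ≤ M) (hNL : normalizer (S : Set G) ≤ L) : Pair M L S q where
  hM := hM
  hL := hL
  hnc := by
    intro g hg
    have hSM : IsSylowIn q S M := hS.of_le (le_normalizer.trans hNM) le_top
    have h1 : cj g S ≤ M := by rw [hg]; exact cj_mono g (le_normalizer.trans hNL)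
    have h2 : IsSylowIn q (cj g S) M := isSylowIn_of_card h1 (by rw [card_map_conj, hSM.card_eq])
    obtain ⟨m, hm, hmS⟩ := isSylowIn_exists_cj_eq hSM h2
    rw [cj_cj] at hmS
    have h3 : m * g ∈ L := hNL (mem_normalizer_of_map_conj_eq hmS)
    apply hne
    calc M = cj m M := (map_conj_eq_self_of_mem hm).symm
      _ = cj (m * g) L := by rw [hg, cj_cj]
      _ = L := map_conj_eq_self_of_mem h3
  hqM := mem_sigma_of_norm_le hS hS1 hNM
  hqL := mem_sigma_of_norm_le hS hS1 hNL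
  hS := hS
  hSM := le_normalizer.trans hNM
  hSL := le_normalizer.trans hNL

/-- **Step 0.** -/
theorem exists_pair {M N : Subgroup G} (hM : IsCoatom M) (hN : IsCoatom N)
    (hnc : ∀ g, N ≠ cj g M) {q : ℕ} (hqM : q ∈ sigma M) (hqN : q ∈ sigma N) :
    ∃ g S, Pair M (cj g N) S q := by
  haveI : Fact q.Prime := ⟨hqM.1⟩
  obtain ⟨S, hS, -⟩ := exists_isSylowIn_ge (bot_le : (⊥ : Subgroup G) ≤ M)
    (IsPGroup.of_bot (p := q))
  obtain ⟨T, hT, -⟩ := exists_isSylowIn_ge (bot_le : (⊥ : Subgroup G) ≤ N)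
    (IsPGroup.of_bot (p := q))
  obtain ⟨g, -, hg⟩ := isSylowIn_exists_cj_eq (sigma_isSylowIn_top hqM hS)
    (sigma_isSylowIn_top hqN hT)
  refine ⟨g, S, hM, isCoatom_cj hN g, ?_, hqM, sigma_cj hqN g, sigma_isSylowIn_top hqM hS, hS.1, ?_⟩
  · intro x hx
    rw [cj_cj] at hx
    exact hnc (x * g)⁻¹ (by rw [hx, cj_inv_cj])
  · rw [← hg]
    exact cj_mono g hT.1

end exist

/-! ### `M_β` is a TI-subgroup (no hypothesis on a second maximal subgroup) -/

section TI

variable [Finite G] {M : Subgroup G}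

theorem bc_inf_cj (hG : IsMinSimpleOddOrder G) (hM : IsCoatom M) {g : G} (hg : g ∉ M) :
    bc M ⊓ cj g M = ⊥ := by
  obtain ⟨E, hE, -⟩ := BG13.exists_compl_ge hG (ut hG) hM (bot_le : (⊥ : Subgroup G) ≤ M)
    (fun r hr hd => by
      rw [Subgroup.card_bot] at hd
      exact absurd (Nat.dvd_one.mp hd) hr.one_lt.ne')
  have h1 := ((Cfsg.Agent.S1426.result hG M hM E hE).2.2 g hg).2.1
  rw [← Subgroup.card_eq_one]
  by_contra hne
  obtain ⟨r, hr, hd⟩ := Nat.exists_prime_and_dvd hne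
  exact h1 r hr (hd.trans (card_dvd_of_le (inf_le_inf_right _ (bc_le_sc hG hM))))
    (bc_primes M hr (hd.trans (card_dvd_of_le inf_le_left)))

theorem normalizer_le_of_le_bc (hG : IsMinSimpleOddOrder G) (hM : IsCoatom M) {Y : Subgroup G}
    (hY : Y ≤ bc M) (hY1 : Y ≠ ⊥) : normalizer (Y : Set G) ≤ M := by
  intro g hg
  by_contra hgM
  apply hY1
  rw [eq_bot_iff, ← bc_inf_cj hG hM hgM]
  refine le_inf hY ?_
  calc Y = cj g Y := (map_conj_eq_self_of_mem_normalizer hg).symm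
    _ ≤ cj g M := cj_mono g (hY.trans (bc_le M))

theorem centralizer_le_of_le_bc (hG : IsMinSimpleOddOrder G) (hM : IsCoatom M) {Y : Subgroup G}
    (hY : Y ≤ bc M) (hY1 : Y ≠ ⊥) : centralizer (Y : Set G) ≤ M :=
  (centralizer_le_normalizer' Y).trans (normalizer_le_of_le_bc hG hM hY hY1)

end TI

end Cfsg.Agent.Lib.Helper58.BG139
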