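/-
Helper library (helper58): Bender–Glauberman Theorem 13.9, Step 6 of helper24's proof:
the dichotomy FPF / BC for the action of `N(S)` on `S`.
-/
import Cfsg.Agent.Lib.Helper58.BG139A
import Cfsg.Agent.Lib.Helper9.BG12a
import Cfsg.Agent.Lib.Helper72.CoprimeC
import Cfsg.Agent.S0055

set_option autoImplicit false
set_option linter.unusedSimpArgs false
set_option linter.unusedVariables false
set_option linter.style.haveILetI false
set_option linter.unusedSectionVars false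

namespace Cfsg.Agent.Lib.Helper58.BG139

open Subgroup Cfsg
open Cfsg.Agent.Lib
open Cfsg.Agent.Lib.Helper24 Cfsg.Agent.Lib.Helper34 Cfsg.Agent.Lib.Helper31.BG11
open scoped commutatorElement Pointwise

universe u

variable {G : Type u} [Group G]

/-! ### Abelian `q`-groups of small rank -/

theorem exists_orderOf_eq_prime [Finite G] {q : ℕ} [Fact q.Prime] {K : Subgroup G}
    (hK : IsPGroup q K) (hK1 : K ≠ ⊥) : ∃ z ∈ K, orderOf z = q := by
  obtain ⟨z, hz⟩ := exists_prime_orderOf_dvd_card' (G := K) q (dvd_card_of_ne_bot hK hK1)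
  exact ⟨z, z.2, by rw [Subgroup.orderOf_coe, hz]⟩

theorem not_pRankLE_of_disjoint [Finite G] {q k : ℕ} [hq : Fact q.Prime] {V E K : Subgroup G}
    (hV : IsMulCommutative V) (hEV : E ≤ V) (hE : IsElementaryAbelian q E)
    (hEc : Nat.card E = q ^ k) (hKV : K ≤ V) (hK : IsPGroup q K) (hK1 : K ≠ ⊥)
    (hEK : E ⊓ K = ⊥) : ¬ PRankLE q k V := by
  obtain ⟨z, hzK, hzo⟩ := exists_orderOf_eq_prime hK hK1
  have hzc : z ∈ centralizer (E : Set G) := le_centralizer_of_comm hV hEV (hKV hzK)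
  have hzq : z ^ q = 1 := by rw [← hzo]; exact pow_orderOf_eq_one z
  have hF := elemAb_sup_zpowers hE hzc hzq
  have hzE : z ∉ E := by
    intro hzE
    have : z ∈ E ⊓ K := ⟨hzE, hzK⟩
    rw [hEK, mem_bot] at this
    rw [this, orderOf_one] at hzo
    exact hq.out.one_lt.ne hzo
  have hlt : E < E ⊔ zpowers z := by
    refine lt_of_le_of_ne le_sup_left (fun e => hzE ?_)
    rw [e]
    exact mem_sup_right (mem_zpowers z)
  exact not_pRankLE_of_le (sup_le hEV (zpowers_le.2 (hKV hzK))) hF.1 hF.2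
    (hEc ▸ Helper22.natCard_lt_of_lt hlt)

/-- Two subgroups of a cyclic `q`-group that meet trivially: one of them is trivial. -/
theorem eq_bot_or_eq_bot_of_isCyclic [Finite G] {q : ℕ} [hq : Fact q.Prime] {C H K : Subgroup G}
    (hC : IsPGroup q C) (hCc : IsCyclic C) (hH : H ≤ C) (hK : K ≤ C) (hHK : H ⊓ K = ⊥) :
    H = ⊥ ∨ K = ⊥ := by
  by_contra hne
  push Not at hne
  obtain ⟨z, hzH, hzo⟩ := exists_orderOf_eq_prime (hC.to_le hH) hne.1
  have hE : IsElementaryAbelian q (zpowers z) := by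
    refine ⟨inferInstance, ?_⟩
    intro a ha
    obtain ⟨k, rfl⟩ := mem_zpowers_iff.mp ha
    rw [← zpow_natCast, ← zpow_mul, mul_comm, zpow_mul, zpow_natCast, ← hzo, pow_orderOf_eq_one,
      one_zpow]
  refine not_pRankLE_of_disjoint (k := 1) (IsCyclic.isMulCommutative) ((zpowers_le.2 hzH).trans hH)
    hE (by rw [Nat.card_zpowers, hzo, pow_one]) hK (hC.to_le hK) hne.2 ?_
    (BG13.pRankLE_one_of_isCyclic hq.out.pos)
  rw [eq_bot_iff, ← hHK]
  exact inf_le_inf_right _ (zpowers_le.2 hzH)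

/-- In an abelian `q`-group of rank at most 2 (`q` odd), a subgroup that avoids a nontrivial
subgroup is cyclic. -/
theorem isCyclic_of_disjoint [Finite G] {q : ℕ} [hq : Fact q.Prime] (hq2 : q ≠ 2)
    {V H K : Subgroup G} (hV : IsMulCommutative V) (hVq : IsPGroup q V) (hr : PRankLE q 2 V)
    (hH : H ≤ V) (hK : K ≤ V) (hK1 : K ≠ ⊥) (hHK : H ⊓ K = ⊥) : IsCyclic H := by
  by_contra hnc
  obtain ⟨E, hEH, hE, hEc⟩ := Helper9.BG12.exists_elemAb_sq_of_not_isCyclic hq2 (hVq.to_le hH) hnc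
  refine not_pRankLE_of_disjoint hV (hEH.trans hH) hE hEc hK (hVq.to_le hK) hK1 ?_ hr
  rw [eq_bot_iff, ← hHK]
  exact inf_le_inf_right _ hEH

/-- A coprime operator group on a cyclic `q`-group with a nontrivial fixed point is trivial. -/
theorem le_centralizer_of_isCyclic [Finite G] {q : ℕ} [hq : Fact q.Prime] {C A : Subgroup G}
    (hC : IsPGroup q C) (hCc : IsCyclic C) (hAC : A ≤ normalizer (C : Set G))
    (hcop : (Nat.card A).Coprime (Nat.card C)) (hfix : C ⊓ centralizer (A : Set G) ≠ ⊥) :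
    C ≤ centralizer (A : Set G) := by
  haveI : IsMulCommutative C := IsCyclic.isMulCommutative
  have h1 := (Cfsg.Agent.S0055.result A C hAC hcop).1
  have h2 : ⁅C, A⁆ ≤ C := Subgroup.le_normalizer_iff_commutator_le_left.1 hAC
  rcases eq_bot_or_eq_bot_of_isCyclic hC hCc inf_le_left h2 h1 with h3 | h3
  · exact absurd h3 hfix
  · exact Subgroup.commutator_eq_bot_iff_le_centralizer.1 h3

/-! ### The dichotomy -/

/-- The data of case BC. -/
structure BC (S W S1 S2 P1 P2 : Subgroup G) (p1 p2 : ℕ) : Prop where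
  hW : IsPiHallOf (pi1 S) W (normalizer (S : Set G))
  hp1 : p1 ∈ pi1 S
  hp2 : p2 ∈ pi1 S
  hne : p1 ≠ p2
  hP1W : P1 ≤ W
  hP2W : P2 ≤ W
  hP1c : Nat.card P1 = p1
  hP2c : Nat.card P2 = p2
  hS1 : S1 ≠ ⊥
  hS2 : S2 ≠ ⊥
  hS1c : IsCyclic S1
  hS2c : IsCyclic S2
  hinf : S1 ⊓ S2 = ⊥
  hsup : S1 ⊔ S2 = S
  hN1 : normalizer (S : Set G) ≤ normalizer (S1 : Set G)
  hN2 : normalizer (S : Set G) ≤ normalizer (S2 : Set G)
  h11 : S1 ⊓ centralizer (P1 : Set G) = ⊥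
  h21 : S2 ≤ centralizer (P1 : Set G)
  h12 : S1 ≤ centralizer (P2 : Set G)
  h22 : S2 ⊓ centralizer (P2 : Set G) = ⊥

namespace Pair

variable [Finite G] {M L S : Subgroup G} {q : ℕ}

theorem S_rank (h : Pair M L S q) (hG : IsMinSimpleOddOrder G) : PRankLE q 2 S := by
  apply pRankLE_mono h.hSM
  by_contra hr
  exact h.alpha_not_sigma hG ⟨h.prime, hr⟩ h.hqL

theorem coprime_of_pi1 (h : Pair M L S q) (hG : IsMinSimpleOddOrder G) {p : ℕ} (hp : p ∈ pi1 S)
    {P T : Subgroup G} (hP : IsPGroup p P) (hT : T ≤ S) :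
    (Nat.card P).Coprime (Nat.card T) := by
  haveI : Fact p.Prime := ⟨hp.1⟩
  haveI : Fact q.Prime := ⟨h.prime⟩
  obtain ⟨a, ha⟩ := IsPGroup.iff_card.1 hP
  obtain ⟨b, hb⟩ := IsPGroup.iff_card.1 (h.hS.2.1.to_le hT)
  rw [ha, hb]
  exact Nat.Coprime.pow _ _ ((Nat.coprime_primes hp.1 h.prime).2 (h.pi1_ne_q hG hp))

/-- **Step 6.** -/
theorem dichotomy (h : Pair M L S q) (hG : IsMinSimpleOddOrder G) :
    (∃ p ∈ pi1 S, ∃ P : Subgroup G, P ≤ normalizer (S : Set G) ∧ Nat.card P = p ∧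
        S ⊓ centralizer (P : Set G) = ⊥) ∨
      ∃ W S1 S2 P1 P2 p1 p2, BC S W S1 S2 P1 P2 p1 p2 := by
  haveI : Fact q.Prime := ⟨h.prime⟩
  by_cases hF : ∃ p ∈ pi1 S, ∃ P : Subgroup G, P ≤ normalizer (S : Set G) ∧ Nat.card P = p ∧
        S ⊓ centralizer (P : Set G) = ⊥
  · exact Or.inl hF
  right
  push Not at hF
  have hq2 : q ≠ 2 := MS_prime_ne_two hG h.hqM.2.1
  have hSc := h.S_comm hG
  obtain ⟨W, hW⟩ := h.exists_hall_pi1 hG
  obtain ⟨hWc, hWsup, hWfix⟩ := h.hall_pi1 hG hW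
  have hWcomm : IsMulCommutative W := IsCyclic.isMulCommutative
  obtain ⟨p1, hp1⟩ := h.pi1_nonempty hG
  haveI : Fact p1.Prime := ⟨hp1.1⟩
  obtain ⟨W1, hW1, -⟩ := exists_isSylowIn_ge (bot_le : (⊥ : Subgroup G) ≤ W)
    (IsPGroup.of_bot (p := p1))
  have hW1N : IsSylowIn p1 W1 (normalizer (S : Set G)) :=
    isSylowIn_of_normal_hall hW.1 (hW.2.2 p1 hp1.1 hp1) hW1
  have hW1b : W1 ≠ ⊥ := by
    intro e
    apply h.not_le_cent_of_pi1 hp1 hW1N
    rw [e]; exact bot_le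
  obtain ⟨x1, hx1W, hx1o⟩ := exists_orderOf_eq_prime hW1.2.1 hW1b
  have hx11 : x1 ≠ 1 := by
    rintro rfl
    rw [orderOf_one] at hx1o
    exact hp1.1.one_lt.ne hx1o
  obtain ⟨e1, ne1⟩ := h.S_inf_cent_pi1 hG hp1 hW1N hx1W hx11
  rw [← centralizer_zpowers_eq] at e1 ne1
  set P1 := zpowers x1 with hP1
  have hP1c : Nat.card P1 = p1 := by rw [hP1, Nat.card_zpowers, hx1o]
  have hP1W : P1 ≤ W := (zpowers_le.2 hx1W).trans hW1.1
  have hP1N : P1 ≤ normalizer (S : Set G) := hP1W.trans hW.1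
  have hP1pg : IsPGroup p1 P1 := hW1.2.1.to_le (zpowers_le.2 hx1W)
  set S2 := S ⊓ centralizer (P1 : Set G) with hS2
  set S1 := ⁅S, P1⁆ with hS1
  have hS2b : S2 ≠ ⊥ := hF p1 hp1 P1 hP1N hP1c
  obtain ⟨d1, d2⟩ := Cfsg.Agent.S0055.result P1 S hP1N (h.coprime_of_pi1 hG hp1 hP1pg le_rfl)
  rw [← hS1, ← hS2] at d1 d2
  have hS1S : S1 ≤ S := Subgroup.le_normalizer_iff_commutator_le_left.1 hP1N
  have hS2S : S2 ≤ S := inf_le_left
  have hS1b : S1 ≠ ⊥ := by
    intro e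
    rw [e, sup_bot_eq] at d2
    exact ne1 d2
  have d1' : S1 ⊓ S2 = ⊥ := by rw [inf_comm]; exact d1
  have hS1c : IsCyclic S1 :=
    isCyclic_of_disjoint hq2 hSc h.hS.2.1 (h.S_rank hG) hS1S hS2S hS2b d1'
  have hS2c : IsCyclic S2 :=
    isCyclic_of_disjoint hq2 hSc h.hS.2.1 (h.S_rank hG) hS2S hS1S hS1b d1
  -- normality in `N(S)`
  have hcent : ∀ T : Subgroup G, T ≤ S → centralizer (S : Set G) ≤ normalizer (T : Set G) :=
    fun T hT => (centralizer_le (by exact_mod_cast hT)).trans (centralizer_le_normalizer' T)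
  have hWP1 : W ≤ normalizer (P1 : Set G) :=
    (le_centralizer_of_comm hWcomm hP1W).trans (centralizer_le_normalizer' P1)
  have hN1 : normalizer (S : Set G) ≤ normalizer (S1 : Set G) := by
    rw [← hWsup]
    exact sup_le (hcent S1 hS1S) (Helper72.le_normalizer_commutator hW.1 hWP1)
  have hN2 : normalizer (S : Set G) ≤ normalizer (S2 : Set G) := by
    rw [← hWsup]
    exact sup_le (hcent S2 hS2S) (Helper22.le_normalizer_inf_centralizer hW.1 hWP1)
  -- the second prime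
  have hex : ∃ p2 : ℕ, p2.Prime ∧ p2 ∣ (W ⊓ centralizer (S2 : Set G)).relIndex W := by
    by_contra hno
    push Not at hno
    have e := BG13.eq_of_forall_not_dvd_relIndex (K := W ⊓ centralizer (S2 : Set G)) (D := W)
      inf_le_left hno
    apply hS2b
    rw [eq_bot_iff, ← hWfix]
    refine le_inf hS2S ?_
    rw [le_centralizer_iff]
    exact inf_eq_left.1 e
  obtain ⟨p2, hp2p, hp2d⟩ := hex
  haveI : Fact p2.Prime := ⟨hp2p⟩
  have hp2 : p2 ∈ pi1 S := hW.2.1 p2 hp2p (hp2d.trans (Subgroup.relIndex_dvd_card _ _))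
  have hW1S2 : W1 ≤ centralizer (S2 : Set G) := by
    rw [le_centralizer_iff, e1]
    exact inf_le_right
  have hne : p1 ≠ p2 := by
    rintro rfl
    apply hW1.2.2
    rw [← relIndex_mul_relIndex W1 _ _ (le_inf hW1.1 hW1S2) inf_le_left]
    exact Dvd.dvd.mul_left hp2d _
  obtain ⟨W2, hW2, -⟩ := exists_isSylowIn_ge (bot_le : (⊥ : Subgroup G) ≤ W)
    (IsPGroup.of_bot (p := p2))
  have hW2N : IsSylowIn p2 W2 (normalizer (S : Set G)) :=
    isSylowIn_of_normal_hall hW.1 (hW.2.2 p2 hp2p hp2) hW2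
  have hW2S2 : ¬ W2 ≤ centralizer (S2 : Set G) := by
    intro hle
    apply hW2.2.2
    rw [← relIndex_mul_relIndex W2 _ _ (le_inf hW2.1 hle) inf_le_left]
    exact Dvd.dvd.mul_left hp2d _
  have hW2b : W2 ≠ ⊥ := by
    intro e
    apply hW2S2
    rw [e]; exact bot_le
  obtain ⟨x2, hx2W, hx2o⟩ := exists_orderOf_eq_prime hW2.2.1 hW2b
  have hx21 : x2 ≠ 1 := by
    rintro rfl
    rw [orderOf_one] at hx2o
    exact hp2p.one_lt.ne hx2o
  obtain ⟨e2, -⟩ := h.S_inf_cent_pi1 hG hp2 hW2N hx2W hx21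
  rw [← centralizer_zpowers_eq] at e2
  set P2 := zpowers x2 with hP2
  have hP2c : Nat.card P2 = p2 := by rw [hP2, Nat.card_zpowers, hx2o]
  have hP2W : P2 ≤ W := (zpowers_le.2 hx2W).trans hW2.1
  have hP2N : P2 ≤ normalizer (S : Set G) := hP2W.trans hW.1
  have hP2pg : IsPGroup p2 P2 := hW2.2.1.to_le (zpowers_le.2 hx2W)
  have h22' : S2 ⊓ centralizer (W2 : Set G) = ⊥ := by
    by_contra hne'
    apply hW2S2
    rw [le_centralizer_iff]
    exact le_centralizer_of_isCyclic (h.hS.2.1.to_le hS2S) hS2c (hW2N.1.trans hN2)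
      (h.coprime_of_pi1 hG hp2 hW2.2.1 hS2S) hne'
  have h22 : S2 ⊓ centralizer (P2 : Set G) = ⊥ := by
    rw [eq_bot_iff, ← h22']
    refine le_inf inf_le_left ?_
    calc S2 ⊓ centralizer (P2 : Set G) ≤ S ⊓ centralizer (P2 : Set G) := inf_le_inf_right _ hS2S
      _ = S ⊓ centralizer (W2 : Set G) := e2
      _ ≤ centralizer (W2 : Set G) := inf_le_right
  have hfix2 : S ⊓ centralizer (P2 : Set G) ≠ ⊥ := hF p2 hp2 P2 hP2N hP2c
  have h12' : S1 ⊓ centralizer (P2 : Set G) ≠ ⊥ := by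
    intro hb
    apply hfix2
    rw [eq_bot_iff]
    rintro s ⟨hsS, hsP⟩
    rw [← d2] at hsS
    obtain ⟨a, ha, b, hb', rfl⟩ := Helper23.exists_mul_of_mem_sup_of_commute
      (fun a ha b hb => congrArg Subtype.val
        (hSc.is_comm.comm ⟨a, hS2S ha⟩ ⟨b, hS1S hb⟩)) hsS
    -- every element of `P2` fixes both components
    have key : ∀ y ∈ P2, y * a * y⁻¹ = a ∧ y * b * y⁻¹ = b := by
      intro y hy
      have hya : y * a * y⁻¹ ∈ S2 := le_normalizer_iff.mp (hP2N.trans hN2) y hy a ha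
      have hyb : y * b * y⁻¹ ∈ S1 := le_normalizer_iff.mp (hP2N.trans hN1) y hy b hb'
      have hy1 : y * (a * b) = (a * b) * y := (mem_centralizer_iff.mp hsP) y hy
      have hy2 : (y * a * y⁻¹) * (y * b * y⁻¹) = a * b := by
        have : (y * a * y⁻¹) * (y * b * y⁻¹) = y * (a * b) * y⁻¹ := by group
        rw [this, hy1]; group
      have hy3 : a⁻¹ * (y * a * y⁻¹) = b * (y * b * y⁻¹)⁻¹ := by
        have : y * a * y⁻¹ = a * b * (y * b * y⁻¹)⁻¹ := by rw [← hy2]; group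
        rw [this]; group
      have hy4 : a⁻¹ * (y * a * y⁻¹) ∈ S2 ⊓ S1 :=
        mem_inf.2 ⟨mul_mem (inv_mem ha) hya, by rw [hy3]; exact mul_mem hb' (inv_mem hyb)⟩
      rw [d1, mem_bot] at hy4
      have hy5 : y * a * y⁻¹ = a := by
        have : y * a * y⁻¹ = a * (a⁻¹ * (y * a * y⁻¹)) := by group
        rw [this, hy4, mul_one]
      refine ⟨hy5, ?_⟩
      rw [hy5] at hy2
      exact mul_left_cancel hy2
    have ha1 : a ∈ S2 ⊓ centralizer (P2 : Set G) := by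
      refine mem_inf.2 ⟨ha, ?_⟩
      rw [mem_centralizer_iff]
      intro y hy
      have := (key y hy).1
      calc y * a = (y * a * y⁻¹) * y := by group
        _ = a * y := by rw [this]
    have hb1 : b ∈ S1 ⊓ centralizer (P2 : Set G) := by
      refine mem_inf.2 ⟨hb', ?_⟩
      rw [mem_centralizer_iff]
      intro y hy
      have := (key y hy).2
      calc y * b = (y * b * y⁻¹) * y := by group
        _ = b * y := by rw [this]
    rw [h22, mem_bot] at ha1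
    rw [hb, mem_bot] at hb1
    rw [ha1, hb1, mul_one, mem_bot]
  have h12 : S1 ≤ centralizer (P2 : Set G) :=
    le_centralizer_of_isCyclic (h.hS.2.1.to_le hS1S) hS1c (hP2N.trans hN1)
      (h.coprime_of_pi1 hG hp2 hP2pg hS1S) h12'
  have h11 : S1 ⊓ centralizer (P1 : Set G) = ⊥ := by
    rw [eq_bot_iff, ← d1']
    exact le_inf inf_le_left (le_inf (inf_le_left.trans hS1S) inf_le_right)
  exact ⟨W, S1, S2, P1, P2, p1, p2, hW, hp1, hp2, hne, hP1W, hP2W, hP1c, hP2c, hS1b, hS2b, hS1c,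
    hS2c, d1', by rw [sup_comm]; exact d2, hN1, hN2, h11, inf_le_right, h12, h22⟩

/-- **Step 6**, in the shape of `Helper72.BG139.Dich`. -/
theorem dichotomy' (h : Pair M L S q) (hG : IsMinSimpleOddOrder G) :
   (∃ (p : ℕ) (P : Subgroup G), p ∈ pi1 S ∧ P ≤ normalizer (S : Set G) ∧ Nat.card P = p ∧
      S ⊓ centralizer (P : Set G) = ⊥) ∨
   (∃ (p₁ p₂ : ℕ) (S₁ S₂ P₁ P₂ : Subgroup G), p₁ ∈ pi1 S ∧ p₂ ∈ pi1 S ∧ p₁ ≠ p₂ ∧ S₁ ≤ S ∧ S₂ ≤ S ∧
      S₁ ≠ ⊥ ∧ normalizer (S : Set G) ≤ normalizer (S₁ : Set G) ∧ P₁ ≤ normalizer (S : Set G) ∧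
      P₂ ≤ normalizer (S : Set G) ∧ Nat.card P₁ = p₁ ∧ Nat.card P₂ = p₂ ∧
      P₁ ≤ centralizer (P₂ : Set G) ∧ S₁ ⊓ centralizer (P₁ : Set G) = ⊥ ∧
      P₂ ≤ centralizer (S₁ : Set G) ∧ P₁ ≤ centralizer (S₂ : Set G) ∧
      P₂ ≤ normalizer (S₂ : Set G) ∧ ¬ P₂ ≤ centralizer (S₂ : Set G)) := by
  rcases h.dichotomy hG with ⟨p, hp, P, h1, h2, h3⟩ | ⟨W, S1, S2, P1, P2, p1, p2, b⟩
  · exact Or.inl ⟨p, P, hp, h1, h2, h3⟩
  · right
    have hWc : IsMulCommutative W := by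
      haveI := (h.hall_pi1 hG b.hW).1
      exact IsCyclic.isMulCommutative
    refine ⟨p1, p2, S1, S2, P1, P2, b.hp1, b.hp2, b.hne, b.hsup ▸ le_sup_left,
      b.hsup ▸ le_sup_right, b.hS1, b.hN1, b.hP1W.trans b.hW.1, b.hP2W.trans b.hW.1, b.hP1c, b.hP2c,
      b.hP1W.trans (le_centralizer_of_comm hWc b.hP2W), b.h11, le_centralizer_iff.1 b.h12,
      le_centralizer_iff.1 b.h21, (b.hP2W.trans b.hW.1).trans b.hN2, ?_⟩
    intro hle
    apply b.hS2
    rw [eq_bot_iff, ← b.h22]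
    exact le_inf le_rfl (le_centralizer_iff.1 hle)

end Pair

end Cfsg.Agent.Lib.Helper58.BG139
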