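/-
Helper library (helper58): Bender–Glauberman Section 13 after Theorems 13.4 and 13.9:
lemmas (N3), (13.5), L1 (CYC), L2 (NORM), L3 (Thm U) of helper87's paper proofs (bulletin #818).
-/
import Cfsg.Agent.Lib.Helper58.BG139B
import Cfsg.Agent.Lib.Helper91.BG1216e
import Cfsg.Agent.S1378
import Cfsg.Agent.S1428
import Cfsg.Agent.S1408
import Cfsg.Agent.S1409
import Cfsg.Agent.S1418
import Cfsg.Agent.S1420
import Cfsg.Agent.S1423

set_option autoImplicit false
set_option linter.unusedSimpArgs false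
set_option linter.unusedVariables false
set_option linter.style.haveILetI false
set_option linter.unusedSectionVars false

namespace Cfsg.Agent.Lib.Helper58.BG13L

open Subgroup Cfsg
open Cfsg.Agent.Lib
open Cfsg.Agent.Lib.Helper24 Cfsg.Agent.Lib.Helper34 Cfsg.Agent.Lib.Helper31.BG11
open Cfsg.Agent.Lib.Helper58.BG139
open scoped commutatorElement Pointwise

universe u

variable {G : Type u} [Group G] [Finite G]

theorem h1378 (hG : IsMinSimpleOddOrder G) : Helper91.BG13.H1378 G :=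
  (Cfsg.Agent.S1378.result hG).2

/-- primes of a `p`-group -/
theorem prime_eq_of_dvd_card {p r : ℕ} [hp : Fact p.Prime] {P : Subgroup G} (hP : IsPGroup p P)
    (hr : r.Prime) (hd : r ∣ Nat.card P) : r = p := by
  obtain ⟨k, hk⟩ := IsPGroup.iff_card.1 hP
  rw [hk] at hd
  exact (Nat.prime_dvd_prime_iff_eq hr hp.out).mp (hr.dvd_of_dvd_pow hd)

theorem isPGroup_of_card_prime {p : ℕ} {P : Subgroup G} (hP : Nat.card P = p) :
    IsPGroup p P := IsPGroup.of_card (n := 1) (by rw [hP, pow_one])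

theorem ne_bot_of_card_prime {p : ℕ} (hp : p.Prime) {P : Subgroup G} (hP : Nat.card P = p) :
    P ≠ ⊥ := by
  rintro rfl
  rw [Subgroup.card_bot] at hP
  exact hp.one_lt.ne hP

/-- **(N3)** -/
theorem N3 (hG : IsMinSimpleOddOrder G) {M : Subgroup G} (hM : IsCoatom M) {t : ℕ}
    [ht : Fact t.Prime] (htb : t ∉ beta M) {T Y : Subgroup G} (hTM : T ≤ M) (hT : IsPGroup t T)
    (hYM : Y ≤ ⁅M, M⁆) (hYt : ¬ t ∣ Nat.card Y) (hYT : Y ≤ normalizer (T : Set G)) :
    ⁅T, Y⁆ = ⊥ := by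
  by_cases hT1 : T = ⊥
  · rw [hT1]; exact Subgroup.commutator_bot_left _
  have hd : t ∣ Nat.card M := (dvd_card_of_ne_bot hT hT1).trans (card_dvd_of_le hTM)
  exact BG13.comm_eq_bot_of_normalPComplement (BG13.le_normalizer_commutator_self M)
    ((Cfsg.Agent.S1414.result hG M hM).2.2.2.2 t ht.out hd htb).1 hTM hT hYM hYt hYT

/-- classification of the primes of a complement -/
theorem tau_cases (hG : IsMinSimpleOddOrder G) {M : Subgroup G} (hM : IsCoatom M) {r : ℕ}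
    (hr : r.Prime) (hd : r ∣ Nat.card M) (hσ : r ∉ sigma M) :
    r ∈ tau1 M ∨ r ∈ tau2 M ∨ r ∈ tau3 M := by
  have hr2 : PRankLE r 2 M := by
    by_contra h
    exact hσ (alpha_subset_sigma hG (ut hG) hM ⟨hr, h⟩)
  by_cases hr1 : PRankLE r 1 M
  · by_cases hd' : r ∣ Nat.card ↥⁅M, M⁆
    · exact Or.inr (Or.inr ⟨hr, hσ, hd', hr1⟩)
    · exact Or.inl ⟨hr, hσ, hd, hd', hr1⟩
  · exact Or.inr (Or.inl ⟨hr, hσ, hr2, hr1⟩)

/-- **(13.5)** `C_{M_σ}(x) = C_{M_σ}(E₁)` for all `x ∈ E₁ \ 1`. -/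
theorem prime13_5 (hG : IsMinSimpleOddOrder G) {M E E₁ : Subgroup G} (hM : IsCoatom M)
    (hE : IsComplIn E (sigmaCore M) M) (hE₁ : IsPiHallOf (tau1 M) E₁ E) {x : G} (hx : x ∈ E₁)
    (hx1 : x ≠ 1) :
    sigmaCore M ⊓ centralizer ({x} : Set G) = sigmaCore M ⊓ centralizer (E₁ : Set G) := by
  have hcyc : IsCyclic E₁ := (Cfsg.Agent.S1415.result hG M hM E hE).2.1 E₁ hE₁
  have hcomm : IsMulCommutative E₁ := IsCyclic.isMulCommutative
  apply le_antisymm _ (inf_le_inf_left _ (centralizer_le (by simpa using hx)))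
  -- a subgroup of prime order in `⟨x⟩`
  have hx0 : Nat.card (zpowers x) ≠ 1 := fun h => hx1 (zpowers_eq_bot.1 ((Subgroup.card_eq_one).1 h))
  obtain ⟨p, hp, hpd⟩ := Nat.exists_prime_and_dvd hx0
  haveI : Fact p.Prime := ⟨hp⟩
  obtain ⟨y, hy⟩ := exists_prime_orderOf_dvd_card' (G := zpowers x) p hpd
  have hyo : orderOf (y : G) = p := by rw [Subgroup.orderOf_coe, hy]
  set P := zpowers (y : G) with hP
  have hPx : P ≤ zpowers x := zpowers_le.2 y.2
  have hPE₁ : P ≤ E₁ := hPx.trans (zpowers_le.2 hx)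
  have hPc : Nat.card P = p := by rw [hP, Nat.card_zpowers, hyo]
  have hpτ : p ∈ tau1 M := hE₁.2.1 p hp (hPc ▸ card_dvd_of_le hPE₁)
  have h1 : sigmaCore M ⊓ centralizer ({x} : Set G) ≤ sigmaCore M ⊓ centralizer (P : Set G) := by
    refine inf_le_inf_left _ ?_
    rw [← centralizer_zpowers_eq x]
    exact centralizer_le (by exact_mod_cast hPx)
  refine h1.trans (le_inf inf_le_left ?_)
  set D := sigmaCore M ⊓ centralizer (P : Set G) with hD
  rw [le_centralizer_iff]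
  have hK := BG13.eq_of_forall_not_dvd_relIndex (K := E₁ ⊓ centralizer (D : Set G)) (D := E₁)
    inf_le_left (by
      intro r hr
      haveI : Fact r.Prime := ⟨hr⟩
      obtain ⟨R₁, hR₁, -⟩ := exists_isSylowIn_ge (bot_le : (⊥ : Subgroup G) ≤ E₁)
        (IsPGroup.of_bot (p := r))
      have hle : R₁ ≤ centralizer (D : Set G) := by
        by_cases hb : R₁ = ⊥
        · rw [hb]; exact bot_le
        have hrτ : r ∈ tau1 M :=
          hE₁.2.1 r hr ((dvd_card_of_ne_bot hR₁.2.1 hb).trans (card_dvd_of_le hR₁.1))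
        obtain ⟨z, hzR, hzo⟩ := exists_orderOf_eq_prime hR₁.2.1 hb
        have hz1 : z ≠ 1 := by
          rintro rfl
          rw [orderOf_one] at hzo
          exact hr.one_lt.ne hzo
        have hRE : IsSylowIn r R₁ E := isSylowIn_of_normal_hall hE₁.1 (hE₁.2.2 r hr hrτ) hR₁
        have hRM : IsSylowIn r R₁ M := BG13.compl_sylow hE hrτ.2.1 hRE
        have hRc : IsCyclic R₁ := isCyclic_of_surjective (Subgroup.subgroupOfEquivOfLe hR₁.1)
          (Subgroup.subgroupOfEquivOfLe hR₁.1).surjective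
        have h27 := prime_action' hG hM hrτ.2.1 hRM hRc hzR hz1
        have h28 := Cfsg.Agent.S1428.result hG M hM E hE p hpτ P (hPE₁.trans hE₁.1) hPc (zpowers z)
          (le_inf ((zpowers_le.2 (hR₁.1 hzR)).trans hE₁.1)
            ((zpowers_le.2 (hR₁.1 hzR)).trans (le_centralizer_of_comm hcomm hPE₁)))
          (by rw [Nat.card_zpowers, hzo]; exact hr)
        rw [centralizer_zpowers_eq z, h27] at h28
        rw [le_centralizer_iff]
        exact h28.trans inf_le_right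
      intro hd
      apply hR₁.2.2
      rw [← relIndex_mul_relIndex R₁ _ _ (le_inf hR₁.1 hle) inf_le_left]
      exact Dvd.dvd.mul_left hd _)
  exact inf_eq_left.1 hK

/-- **L1 (CYC).** -/
theorem L1 (hG : IsMinSimpleOddOrder G) {M P : Subgroup G} (hM : IsCoatom M) {p : ℕ}
    [hp : Fact p.Prime] (hpσ : p ∉ sigma M) (hr : PRankLE p 1 M) (hPM : P ≤ M)
    (hPc : Nat.card P = p) {q : ℕ} [hq : Fact q.Prime] {Q : Subgroup G} (hQ : IsPGroup q Q)
    (hQle : Q ≤ sigmaCore M ⊓ centralizer (P : Set G)) : IsCyclic Q := by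
  have hU := ut hG
  by_contra hnc
  have hQ1 : Q ≠ ⊥ := by
    rintro rfl
    exact hnc inferInstance
  have hqσ : q ∈ sigma M :=
    sc_primes M hq.out ((dvd_card_of_ne_bot hQ hQ1).trans (card_dvd_of_le (hQle.trans inf_le_left)))
  have hq2 : q ≠ 2 := MS_prime_ne_two hG hqσ.2.1
  obtain ⟨A, hAQ, hAe, hAc⟩ := Helper9.BG12.exists_elemAb_sq_of_not_isCyclic hq2 hQ hnc
  have hApg : IsPGroup q A := hQ.to_le hAQ
  have hlt : q < Nat.card A := by
    rw [hAc]
    calc q = q ^ 1 := (pow_one q).symm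
      _ < q ^ 2 := Nat.pow_lt_pow_right hq.out.one_lt (by norm_num)
  have hAnc : ¬ IsCyclic A := Helper23U.not_isCyclic_of_elemAb hAe.2 hlt
  have hAσ : A ≤ sigmaCore M := hAQ.trans (hQle.trans inf_le_left)
  have hAM : A ≤ M := hAσ.trans (sc_le M)
  obtain ⟨E0, hE0, -⟩ := BG13.exists_compl_ge hG hU hM (bot_le : (⊥ : Subgroup G) ≤ M)
    (fun r hr hd => by
      rw [Subgroup.card_bot] at hd
      exact absurd (Nat.dvd_one.mp hd) hr.one_lt.ne')
  have hNA : normalizer (A : Set G) ≤ M :=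
    (Cfsg.Agent.S1420.result hG M hM E0 hE0).2.2.1 q A hqσ hApg hAM hAnc
  have hP1 : P ≠ ⊥ := ne_bot_of_card_prime hp.out hPc
  have hPpg : IsPGroup p P := isPGroup_of_card_prime hPc
  obtain ⟨H, hH, hNH⟩ := exists_coatom_ge (MS_normalizer_ne_top hG hP1 (MS_isPGroup_ne_top hG hPpg))
  have hHM : H ≠ M := by
    rintro rfl
    exact (Cfsg.Agent.S1409.result hG H hM p hpσ P hPc hNH).1.2 hr
  have hAH : A ≤ H :=
    (hAQ.trans (hQle.trans inf_le_right)).trans ((centralizer_le_normalizer' P).trans hNH)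
  have hqH : q ∉ sigma H := by
    intro hqH
    obtain ⟨g, hg⟩ := h1378 hG M H hM hH ⟨q, hqσ, hqH⟩
    have hgM : g ∉ M := by
      intro hgM
      apply hHM
      rw [hg]
      exact map_conj_eq_self_of_mem hgM
    haveI := ((Cfsg.Agent.S1426.result hG M hM E0 hE0).2.2 g hgM).1
    have hle : A ≤ sigmaCore M ⊓ M.map (MulAut.conj g).toMonoidHom := le_inf hAσ (hg ▸ hAH)
    exact hAnc (isCyclic_of_surjective (Subgroup.subgroupOfEquivOfLe hle)
      (Subgroup.subgroupOfEquivOfLe hle).surjective)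
  have hqτ : q ∈ tau2 H := by
    refine ⟨hq.out, hqH, ?_, not_pRankLE_of_le hAH hAe.1 hAe.2 (by rwa [pow_one])⟩
    by_contra h
    exact hqH (alpha_subset_sigma hG hU hH ⟨hq.out, h⟩)
  have h17 := Cfsg.Agent.S1417.result hG H hH q hqτ A ⟨hAH, hAe, hAc⟩
  have hbot : sigmaCore H ⊓ M = ⊥ := h17.2.2.2.2.1 M hM (Ne.symm hHM) hAM
  have hPH : P ≤ H := le_normalizer.trans hNH
  by_cases hpH : p ∈ sigma H
  · apply hP1
    rw [eq_bot_iff, ← hbot]
    exact le_inf (le_sc hG hU hH hpH hPH hPpg) hPM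
  · have h09 := (Cfsg.Agent.S1409.result hG H hH p hpH P hPc hNH).1.2
    obtain ⟨EH, hEH, hAEH⟩ := BG13.exists_compl_ge hG hU hH hAH (fun r hr hd => by
      rw [prime_eq_of_dvd_card hApg hr hd]; exact hqH)
    have h18 := Cfsg.Agent.S1418.result hG H hH EH hEH q hqτ A ⟨hAEH, hAe, hAc⟩
    have hEM : EH ≤ M := by
      rw [← h18.2.1.2.1]
      exact inf_le_right.trans hNA
    obtain ⟨Sp, hSp, -⟩ := exists_isSylowIn_ge (bot_le : (⊥ : Subgroup G) ≤ EH)
      (IsPGroup.of_bot (p := p))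
    exact h09 (pRankLE_of_isSylowIn (BG13.compl_sylow hEH hpH hSp)
      (pRankLE_mono (hSp.1.trans hEM) hr))

/-- Frattini: if `Q` is a Sylow subgroup of `M_σ`, then `|M : N_M(Q)|` divides `|M_σ|`. -/
theorem relIndex_norm_dvd {M Q : Subgroup G} {q : ℕ} [hq : Fact q.Prime]
    (hQ : IsSylowIn q Q (sigmaCore M)) :
    (M ⊓ normalizer (Q : Set G)).relIndex M ∣ Nat.card (sigmaCore M) := by
  haveI : ((sigmaCore M).subgroupOf M).Normal :=
    (Subgroup.normal_subgroupOf_iff_le_normalizer (sc_le M)).2 (sc_norm M)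
  have h1 := Cfsg.Agent.S3703.index_dvd_card_of_sup_eq_top
    ((M ⊓ normalizer (Q : Set G)).subgroupOf M) ((sigmaCore M).subgroupOf M) (by
      rw [eq_top_iff]
      rintro ⟨m, hm⟩ -
      have h1 : cj m Q ≤ sigmaCore M := by
        calc cj m Q ≤ cj m (sigmaCore M) := cj_mono m hQ.1
          _ = sigmaCore M := map_conj_eq_self_of_mem_normalizer (sc_norm M hm)
      have h2 : IsSylowIn q (cj m Q) (sigmaCore M) :=
        isSylowIn_of_card h1 (by rw [card_map_conj, hQ.card_eq])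
      obtain ⟨y, hy, hyQ⟩ := isSylowIn_exists_cj_eq hQ h2
      rw [cj_cj] at hyQ
      have h3 : y * m ∈ M ⊓ normalizer (Q : Set G) :=
        ⟨mul_mem (sc_le M hy) hm, mem_normalizer_of_map_conj_eq hyQ⟩
      have : (⟨m, hm⟩ : M) = ⟨y⁻¹, inv_mem (sc_le M hy)⟩ * ⟨y * m, h3.1⟩ :=
        Subtype.ext (by simp)
      rw [this]
      exact mul_mem (mem_sup_right (Subgroup.mem_subgroupOf.mpr (inv_mem hy)))
        (mem_sup_left (Subgroup.mem_subgroupOf.mpr h3)))
  rwa [Helper1.card_subgroupOf (sc_le M)] at h1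

/-- **L2 (NORM).** -/
theorem L2 (hG : IsMinSimpleOddOrder G) {M P X : Subgroup G} (hM : IsCoatom M) {p : ℕ}
    [hp : Fact p.Prime] (hpσ : p ∉ sigma M) (hr : PRankLE p 1 M) (hPM : P ≤ M)
    (hPc : Nat.card P = p) {q : ℕ} [hq : Fact q.Prime] (hqb : q ∉ beta M)
    (hXle : X ≤ sigmaCore M ⊓ centralizer (P : Set G)) (hXc : Nat.card X = q) :
    ∃ E, IsComplIn E (sigmaCore M) M ∧ P ≤ E ∧ E ≤ normalizer (X : Set G) ∧
      ⁅E, E⁆ ≤ centralizer (X : Set G) := by
  have hU := ut hG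
  have hPpg : IsPGroup p P := isPGroup_of_card_prime hPc
  have hXpg : IsPGroup q X := isPGroup_of_card_prime hXc
  have hpMs : ¬ p ∣ Nat.card (sigmaCore M) := fun hd => hpσ (sc_primes M hp.out hd)
  have hqσ : q ∈ sigma M := sc_primes M hq.out (hXc ▸ card_dvd_of_le (hXle.trans inf_le_left))
  have hPX : P ≤ normalizer (X : Set G) :=
    (le_centralizer_iff.1 (hXle.trans inf_le_right)).trans (centralizer_le_normalizer' X)
  obtain ⟨Q, hQ, hPQ, hXQ⟩ := exists_inv_sylow_ge hPpg hpMs (hPM.trans (sc_norm M)) q hXpg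
    (hXle.trans inf_le_left) hPX
  set N := M ⊓ normalizer (Q : Set G) with hN
  have hNsolv : Group.IsSolvable N := MS_solvable hG (ne_top_of_le_ne_top hM.1 inf_le_left)
  obtain ⟨E, hE, -, hPE⟩ := Helper62.invariant_le_invariant_hall_aux
    {r | r.Prime ∧ r ∉ sigma M} _ G ⊥ N P rfl bot_le
    (by rw [Subgroup.card_bot]; exact Nat.coprime_one_left _) hNsolv (le_inf hPM hPQ) bot_le
    (fun r hr hd => ⟨hr, by rw [prime_eq_of_dvd_card hPpg hr hd]; exact hpσ⟩)
  have hEM : E ≤ M := hE.1.trans inf_le_left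
  have hEQ : E ≤ normalizer (Q : Set G) := hE.1.trans inf_le_right
  have hEhall : IsPiHallOf {r | r.Prime ∧ r ∉ sigma M} E M := by
    refine ⟨hEM, hE.2.1, fun r hr hrπ hd => ?_⟩
    rw [← relIndex_mul_relIndex E N M hE.1 inf_le_left] at hd
    rcases (Nat.Prime.dvd_mul hr).1 hd with h | h
    · exact hE.2.2 r hr hrπ h
    · exact hrπ.2 (sc_primes M hr (h.trans (relIndex_norm_dvd hQ)))
  have hcompl : IsComplIn E (sigmaCore M) M := by
    apply BG13.isComplIn_of_card hEM (sc_le M)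
    · exact Nat.coprime_of_dvd fun k hk h1 h2 => (hE.2.1 k hk h1).2 (sc_primes M hk h2)
    · rw [mul_comm]
      exact card_mul_of_hall (sc_hall hG hU hM) hEhall
  have hqE : ¬ q ∣ Nat.card E := fun hd => (hE.2.1 q hq.out hd).2 hqσ
  have hcomm : ⁅Q, ⁅E, E⁆⁆ = ⊥ :=
    N3 hG hM hqb (hQ.1.trans (sc_le M)) hQ.2.1 (Subgroup.commutator_mono hEM hEM)
      (fun hd => hqE (hd.trans (card_dvd_of_le (Subgroup.commutator_le_self E))))
      ((Subgroup.commutator_le_self E).trans hEQ)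
  have hQE' : Q ≤ centralizer ((⁅E, E⁆ : Subgroup G) : Set G) :=
    Subgroup.commutator_eq_bot_iff_le_centralizer.1 hcomm
  have hCcyc : IsCyclic ↥(Q ⊓ centralizer (P : Set G)) :=
    L1 hG hM hpσ hr hPM hPc (hQ.2.1.to_le inf_le_left) (inf_le_inf_right _ hQ.1)
  have hEC : E ≤ normalizer ((Q ⊓ centralizer (P : Set G) : Subgroup G) : Set G) := by
    rw [le_normalizer_iff]
    rintro v hv c ⟨hcQ, hcP⟩
    refine mem_inf.2 ⟨le_normalizer_iff.mp hEQ v hv c hcQ, ?_⟩
    rw [mem_centralizer_iff]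
    intro x hx
    have hw : ⁅x⁻¹, v⁻¹⁆ ∈ ⁅E, E⁆ :=
      Subgroup.commutator_mem_commutator (inv_mem (hPE hx)) (inv_mem hv)
    have h1 : ⁅x⁻¹, v⁻¹⁆ * c = c * ⁅x⁻¹, v⁻¹⁆ := (mem_centralizer_iff.mp (hQE' hcQ)) _ hw
    have h2 : x * c = c * x := (mem_centralizer_iff.mp hcP) x hx
    have h3 : v⁻¹ * x * v = x * ⁅x⁻¹, v⁻¹⁆ := by rw [commutatorElement_def]; group
    have h4 : (v⁻¹ * x * v) * c = c * (v⁻¹ * x * v) := by
      rw [h3, mul_assoc, h1, ← mul_assoc, h2, mul_assoc]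
    calc x * (v * c * v⁻¹) = v * ((v⁻¹ * x * v) * c) * v⁻¹ := by group
      _ = v * (c * (v⁻¹ * x * v)) * v⁻¹ := by rw [h4]
      _ = v * c * v⁻¹ * x := by group
  refine ⟨E, hcompl, hPE, hEC.trans (Helper9.BG12.normalizer_le_normalizer_of_isCyclic hCcyc
    (le_inf hXQ (hXle.trans inf_le_right))), ?_⟩
  exact (le_centralizer_iff.1 hQE').trans (centralizer_le (by exact_mod_cast hXQ))

/-- **L3 (Thm U).** -/
theorem L3 (hG : IsMinSimpleOddOrder G) {M P X : Subgroup G} (hM : IsCoatom M) {p : ℕ}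
    (hp : p ∈ tau1 M) (hPM : P ≤ M) (hPc : Nat.card P = p) {q : ℕ} (hq : q.Prime)
    (hXle : X ≤ sigmaCore M ⊓ centralizer (P : Set G)) (hXc : Nat.card X = q) :
    normalizer (X : Set G) ≤ M := by
  haveI : Fact p.Prime := ⟨hp.1⟩
  haveI : Fact q.Prime := ⟨hq⟩
  have hU := ut hG
  have hXpg : IsPGroup q X := isPGroup_of_card_prime hXc
  have hX1 : X ≠ ⊥ := ne_bot_of_card_prime hq hXc
  have hXσ : X ≤ sigmaCore M := hXle.trans inf_le_left
  have hXM : X ≤ M := hXσ.trans (sc_le M)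
  have hqσ : q ∈ sigma M := sc_primes M hq (hXc ▸ card_dvd_of_le hXσ)
  obtain ⟨L, hL, hNL⟩ := exists_coatom_ge (MS_normalizer_ne_top hG hX1 (MS_isPGroup_ne_top hG hXpg))
  by_cases hLM : L = M
  · rw [← hLM]; exact hNL
  exfalso
  obtain ⟨hqτ, -⟩ := Helper91.BG13.tau2_compl hG (h1378 hG) hM hL hLM hqσ hXpg hX1 hXM hNL
  have hqi : ¬ IsIdealPrime q G :=
    (Cfsg.Agent.S1408.result hG L hL q hqτ.2.1 hqτ.2.2.1 hqτ.2.2.2).1
  have hqb : q ∉ beta M := fun h => hqi h.2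
  obtain ⟨E, hE, hPE, hEX, hE'X⟩ := L2 hG hM hp.2.1 hp.2.2.2.2 hPM hPc hqb hXle hXc
  have hEL : E ≤ L := hEX.trans hNL
  have hXL : X ≤ L := le_normalizer.trans hNL
  -- `τ₂(M)` is empty
  have ht2 : ∀ r : ℕ, r ∉ tau2 M := by
    intro r hr
    haveI : Fact r.Prime := ⟨hr.1⟩
    obtain ⟨R, hR, -⟩ := exists_isSylowIn_ge (bot_le : (⊥ : Subgroup G) ≤ E)
      (IsPGroup.of_bot (p := r))
    have hRM : IsSylowIn r R M := BG13.compl_sylow hE hr.2.1 hR
    have hR1 : ¬ PRankLE r 1 R := fun h => hr.2.2.2 (pRankLE_of_isSylowIn hRM h)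
    obtain ⟨A, hAR, hAe, hAc⟩ := exists_elemAb_sq (pRankLE_mono hRM.1 hr.2.2.1) hR1
    have h17 := Cfsg.Agent.S1417.result hG M hM r hr A ⟨hAR.trans hRM.1, hAe, hAc⟩
    have hbot := h17.2.2.2.2.1 L hL hLM ((hAR.trans hR.1).trans hEL)
    apply hX1
    rw [eq_bot_iff, ← hbot]
    exact le_inf hXσ hXL
  have hEs : Group.IsSolvable E := MS_solvable hG (ne_top_of_le_ne_top hM.1 hE.1)
  obtain ⟨E₁, hE₁, -, hPE₁⟩ := Helper62.invariant_le_invariant_hall_aux (tau1 M) _ G ⊥ E P rfl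
    bot_le (by rw [Subgroup.card_bot]; exact Nat.coprime_one_left _) hEs hPE bot_le
    (fun r hr hd => by rw [prime_eq_of_dvd_card (isPGroup_of_card_prime hPc) hr hd]; exact hp)
  obtain ⟨E₃, hE₃⟩ := Helper62.exists_isPiHallOf (tau3 M) E hEs
  obtain ⟨-, hE₃', hE₃n⟩ := (Cfsg.Agent.S1415.result hG M hM E hE).2.2 E₃ hE₃
  -- `E₁` centralizes `X`
  have hE₁X : E₁ ≤ centralizer (X : Set G) := by
    obtain ⟨x, hxP, hxo⟩ := exists_orderOf_eq_prime (isPGroup_of_card_prime hPc)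
      (ne_bot_of_card_prime hp.1 hPc)
    have hx1 : x ≠ 1 := by
      rintro rfl
      rw [orderOf_one] at hxo
      exact hp.1.one_lt.ne hxo
    have h5 := prime13_5 hG hM hE hE₁ (hPE₁ hxP) hx1
    rw [le_centralizer_iff]
    have : X ≤ sigmaCore M ⊓ centralizer ({x} : Set G) :=
      le_inf hXσ ((hXle.trans inf_le_right).trans (centralizer_le (by simpa using hxP)))
    rw [h5] at this
    exact this.trans inf_le_right
  have hEcent : E ≤ centralizer (X : Set G) := by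
    have hK := BG13.eq_of_forall_not_dvd_relIndex (K := E ⊓ centralizer (X : Set G)) (D := E)
      inf_le_left (by
        intro r hr
        haveI : Fact r.Prime := ⟨hr⟩
        -- a Sylow `r`-subgroup of `E` centralizing `X`
        have hex : ∃ R, IsSylowIn r R E ∧ R ≤ centralizer (X : Set G) := by
          by_cases hrE : r ∣ Nat.card E
          · have hrσ : r ∉ sigma M := BG13.compl_not_sigma hG hU hM hE hr hrE
            rcases tau_cases hG hM hr (hrE.trans (card_dvd_of_le hE.1)) hrσ with h1 | h2 | h3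
            · obtain ⟨R, hR, -⟩ := exists_isSylowIn_ge (bot_le : (⊥ : Subgroup G) ≤ E₁)
                (IsPGroup.of_bot (p := r))
              exact ⟨R, isSylowIn_of_normal_hall hE₁.1 (hE₁.2.2 r hr h1) hR, hR.1.trans hE₁X⟩
            · exact absurd h2 (ht2 r)
            · obtain ⟨R, hR, -⟩ := exists_isSylowIn_ge (bot_le : (⊥ : Subgroup G) ≤ E)
                (IsPGroup.of_bot (p := r))
              exact ⟨R, hR, ((le_of_normal_of_not_dvd hE₃.1 hE₃n (hE₃.2.2 r hr h3) hR.1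
                hR.2.1).trans hE₃').trans hE'X⟩
          · refine ⟨⊥, ⟨bot_le, IsPGroup.of_bot, ?_⟩, bot_le⟩
            rw [Subgroup.relIndex_bot_left]
            exact hrE
        obtain ⟨R, hR, hRX⟩ := hex
        intro hd
        apply hR.2.2
        rw [← relIndex_mul_relIndex R _ _ (le_inf hR.1 hRX) inf_le_left]
        exact Dvd.dvd.mul_left hd _)
    exact inf_eq_left.1 hK
  have hXder : X ≤ ⁅sigmaCore M, sigmaCore M⁆ :=
    (le_inf hXσ (le_centralizer_iff.1 hEcent)).trans (Cfsg.Agent.S1426.result hG M hM E hE).1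
  obtain ⟨P0⟩ : Nonempty (Sylow q ↥(sigmaCore M)) := inferInstance
  have h23 := (Cfsg.Agent.S1423.result hG M hM q hqσ X hXM hXc P0 (Or.inr hXder)).1
  exact hLM (h23.2 L hL ((centralizer_le_normalizer' X).trans hNL))

end Cfsg.Agent.Lib.Helper58.BG13L
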