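import Cfsg.Agent.Lib.Helper53.Zas.Basic

/-!
# Piece P2 of the Zassenhaus theorem (S0690): two non-commuting elements of order three
generate a subgroup containing binary tetrahedral data
-/

set_option autoImplicit false
set_option linter.style.haveILetI false
set_option linter.unusedSectionVars false
set_option linter.unusedSimpArgs false

namespace Cfsg.Agent.Lib.Helper58.Zas

open Subgroup
open Cfsg.Agent.Lib.Helper53.Zas

variable {Y Γ : Type*} [Group Y] [Group Γ]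

/-- `s` is an involution generating, with its conjugates under `τ`, a four-group permuted
cyclically by `τ` -/
structure VP (τ s : Γ) : Prop where
  sq : s * s = 1
  ne : s ≠ 1
  comm : s * (τ * s * τ⁻¹) = (τ * s * τ⁻¹) * s
  rot : τ * (τ * s * τ⁻¹) * τ⁻¹ = s * (τ * s * τ⁻¹)

theorem VP.next {τ s : Γ} (h : VP τ s) : VP τ (s * (τ * s * τ⁻¹)⁻¹) := by
  set t := τ * s * τ⁻¹ with ht
  have ht2 : t * t = 1 := by
    have : t * t = τ * (s * s) * τ⁻¹ := by rw [ht]; group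
    rw [this, h.sq]; group
  have htinv : t⁻¹ = t := inv_eq_of_mul_eq_one_left ht2
  have hsinv : s⁻¹ = s := inv_eq_of_mul_eq_one_left h.sq
  have hc : s * t = t * s := h.comm
  have hr : τ * t * τ⁻¹ = s * t := h.rot
  rw [htinv]
  have h1 : τ * (s * t) * τ⁻¹ = s := by
    have : τ * (s * t) * τ⁻¹ = (τ * s * τ⁻¹) * (τ * t * τ⁻¹) := by group
    rw [this, hr, ← ht, hc, ← mul_assoc, ht2, one_mul]
  have htne : t ≠ 1 := by
    intro h1
    apply h.ne
    have : s = τ⁻¹ * t * τ := by rw [ht]; group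
    rw [this, h1]; group
  refine ⟨?_, ?_, ?_, ?_⟩
  · calc s * t * (s * t) = s * (t * s) * t := by group
      _ = s * (s * t) * t := by rw [hc]
      _ = (s * s) * (t * t) := by group
      _ = 1 := by rw [h.sq, ht2, one_mul]
  · intro h2
    apply htne
    rw [h2] at hr
    have : t = τ⁻¹ * (τ * t * τ⁻¹) * τ := by group
    rw [this, hr]; group
  · rw [h1]
    calc s * t * s = s * (t * s) := by group
      _ = s * (s * t) := by rw [hc]
  · rw [h1, ← ht]
    calc t = (s * s) * t := by rw [h.sq, one_mul]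
      _ = s * (s * t) := by group
      _ = s * (t * s) := by rw [hc]
      _ = s * t * s := by group


theorem VP.conj_ne {τ s : Γ} (h : VP τ s) : τ * s * τ⁻¹ ≠ s := by
  intro h1
  have h2 := h.rot
  rw [h1, h1, h.sq] at h2
  exact h.ne h2

theorem lemA (f : Y →* Γ) (hker : ∀ x : Y, f x = 1 → ∀ y : Y, x * y = y * x)
    (huniq : ∀ s t : Y, orderOf s = 2 → orderOf t = 2 → s = t) (e i : Y)
    (hP : VP (f e) (f i)) :
    ∃ z : Y, orderOf z = 2 ∧ (e * i * e⁻¹) * i * (e * i * e⁻¹)⁻¹ = z * i ∧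
      (e * i * e⁻¹) * (e * i * e⁻¹) = i * i ∧
      (i * (e * i * e⁻¹)⁻¹) * (i * (e * i * e⁻¹)⁻¹) = z := by
  set j := e * i * e⁻¹ with hj
  have hfj : f j = f e * f i * (f e)⁻¹ := by simp [hj]
  have hi2 : ∀ y, (i * i) * y = y * (i * i) := hker _ (by rw [map_mul, hP.sq])
  have hj2 : j * j = i * i := by
    calc j * j = e * (i * i) * e⁻¹ := by rw [hj]; group
      _ = (i * i) * e * e⁻¹ := by rw [← hi2 e]
      _ = i * i := by group
  set κ := j * i * j⁻¹ * i⁻¹ with hκdef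
  have hfκ : f κ = 1 := by
    simp only [hκdef, map_mul, map_inv, hfj]
    rw [← hP.comm]; group
  have hκ : ∀ y, κ * y = y * κ := hker _ hfκ
  have hji : j * i * j⁻¹ = κ * i := by simp [hκdef]
  have hκ2 : κ * κ = 1 := by
    have h1 : j * (i * i) * j⁻¹ = (κ * i) * (κ * i) := by rw [← hji]; group
    have h2 : j * (i * i) * j⁻¹ = i * i := by rw [← hi2 j]; group
    have h3 : (κ * i) * (κ * i) = (κ * κ) * (i * i) := by
      calc (κ * i) * (κ * i) = κ * (i * κ) * i := by group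
        _ = κ * (κ * i) * i := by rw [hκ i]
        _ = _ := by group
    rw [h2, h3] at h1
    exact mul_eq_right.1 h1.symm
  have hκne : κ ≠ 1 := by
    intro hk
    have hcomm : j * i = i * j := by
      rw [hk, one_mul] at hji
      exact mul_inv_eq_iff_eq_mul.1 hji
    have hcomm' : j⁻¹ * i = i * j⁻¹ := by
      calc j⁻¹ * i = j⁻¹ * (i * j) * j⁻¹ := by group
        _ = j⁻¹ * (j * i) * j⁻¹ := by rw [hcomm]
        _ = i * j⁻¹ := by group
    have hu2 : (i * j⁻¹) * (i * j⁻¹) = 1 := by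
      calc (i * j⁻¹) * (i * j⁻¹) = i * (j⁻¹ * i) * j⁻¹ := by group
        _ = i * (i * j⁻¹) * j⁻¹ := by rw [hcomm']
        _ = (i * i) * (j * j)⁻¹ := by group
        _ = 1 := by rw [hj2]; group
    have hue : e * (i * j⁻¹) * e⁻¹ = i * j⁻¹ := by
      by_cases hu1 : i * j⁻¹ = 1
      · rw [hu1]; group
      · have o1 : orderOf (i * j⁻¹) = 2 := orderOf_eq_prime (by rw [pow_two]; exact hu2) hu1
        have o2 : orderOf (e * (i * j⁻¹) * e⁻¹) = 2 := by
          rw [← o1]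
          exact orderOf_injective (MulAut.conj e).toMonoidHom (MulAut.conj e).injective _
        exact huniq _ _ o2 o1
    have h5 := congrArg f hue
    simp only [map_mul, map_inv, hfj] at h5
    exact hP.next.conj_ne h5
  refine ⟨κ, orderOf_eq_prime (by rw [pow_two]; exact hκ2) hκne, hji, hj2, ?_⟩
  have h6 : j⁻¹ * i = κ * i * j⁻¹ := by
    calc j⁻¹ * i = j⁻¹ * ((κ * κ) * i) := by rw [hκ2, one_mul]
      _ = j⁻¹ * (κ * (κ * i)) := by group
      _ = j⁻¹ * (κ * (j * i * j⁻¹)) := by rw [hji]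
      _ = j⁻¹ * (κ * j) * i * j⁻¹ := by group
      _ = j⁻¹ * (j * κ) * i * j⁻¹ := by rw [hκ j]
      _ = κ * i * j⁻¹ := by group
  calc (i * j⁻¹) * (i * j⁻¹) = i * (j⁻¹ * i) * j⁻¹ := by group
    _ = i * (κ * i * j⁻¹) * j⁻¹ := by rw [h6]
    _ = (i * κ) * i * j⁻¹ * j⁻¹ := by group
    _ = (κ * i) * i * j⁻¹ * j⁻¹ := by rw [hκ i]
    _ = κ * (i * i) * (j * j)⁻¹ := by group
    _ = κ := by rw [hj2]; group

theorem lemC (f : Y →* Γ) (hker : ∀ x : Y, f x = 1 → ∀ y : Y, x * y = y * x)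
    (huniq : ∀ s t : Y, orderOf s = 2 → orderOf t = 2 → s = t) (e i₀ : Y) (he : e ^ 3 = 1)
    (hP : VP (f e) (f i₀)) : ∃ i j : Y, TD i j e := by
  obtain ⟨z, hz, -, -, hz2⟩ := lemA f hker huniq e i₀ hP
  set i := i₀ * (e * i₀ * e⁻¹)⁻¹ with hi
  have hfi : f i = f i₀ * (f e * f i₀ * (f e)⁻¹)⁻¹ := by simp [hi]
  have hP' : VP (f e) (f i) := by rw [hfi]; exact hP.next
  obtain ⟨z', hz', hji, hj2, -⟩ := lemA f hker huniq e i hP'
  have hzz' : z' = z := huniq _ _ hz' hz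
  subst hzz'
  set j := e * i * e⁻¹ with hj
  have hfj : f j = f e * f i * (f e)⁻¹ := by simp [hj]
  have hzc : ∀ y, z' * y = y * z' := by
    intro y
    have o2 : orderOf (y * z' * y⁻¹) = 2 := by
      rw [← hz]
      exact orderOf_injective (MulAut.conj y).toMonoidHom (MulAut.conj y).injective _
    have := huniq _ _ o2 hz
    nth_rewrite 1 [← this]
    group
  have hzz : z' * z' = 1 := by
    have := pow_orderOf_eq_one z'
    rwa [hz, pow_two] at this
  have hz1 : z' ≠ 1 := by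
    intro h
    rw [h, orderOf_one] at hz
    omega
  set c := (i * j)⁻¹ * (e * j * e⁻¹) with hcdef
  have hfc : f c = 1 := by
    simp only [hcdef, map_mul, map_inv, hfj]
    rw [hP'.rot]; group
  have hc : ∀ y, c * y = y * c := hker _ hfc
  have hej : e * j * e⁻¹ = i * j * c := by rw [hcdef, mul_inv_cancel_left]
  have hij2 : (i * j) * (i * j) = z' := by
    calc (i * j) * (i * j) = i * (j * i * j⁻¹) * (j * j) := by group
      _ = i * (z' * i) * (i * i) := by rw [hji, hj2]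
      _ = (i * z') * i * (i * i) := by group
      _ = (z' * i) * i * (i * i) := by rw [hzc i]
      _ = z' * (i * i) * (i * i) := by group
      _ = z' := by rw [hz2, hzz, one_mul]
  have hc2 : c * c = 1 := by
    have h1 : (e * j * e⁻¹) * (e * j * e⁻¹) = z' := by
      calc (e * j * e⁻¹) * (e * j * e⁻¹) = e * (j * j) * e⁻¹ := by group
        _ = e * z' * e⁻¹ := by rw [hj2, hz2]
        _ = z' := by rw [← hzc e]; group
    rw [hej] at h1
    have h2 : (i * j * c) * (i * j * c) = (i * j) * (i * j) * (c * c) := by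
      calc (i * j * c) * (i * j * c) = (i * j) * (c * (i * j)) * c := by group
        _ = (i * j) * ((i * j) * c) * c := by rw [hc]
        _ = _ := by group
    rw [h2, hij2] at h1
    exact mul_eq_left.1 h1
  have hinv : z' * i = i⁻¹ := by
    apply eq_inv_of_mul_eq_one_left
    rw [mul_assoc, hz2, hzz]
  by_cases hc1 : c = 1
  · refine ⟨i, j, ?_⟩
    refine ⟨?_, ?_, ?_, ?_, he, rfl, ?_⟩
    · have : i ^ 4 = (i * i) * (i * i) := by
        rw [← pow_two, ← pow_two, ← pow_mul]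
      rw [this, hz2, hzz]
    · rw [pow_two, hz2]; exact hz1
    · rw [pow_two, pow_two, hj2]
    · rw [hji, hinv]
    · rw [hej, hc1, mul_one]
  · have hcz : c = z' := huniq _ _ (orderOf_eq_prime (by rw [pow_two]; exact hc2) hc1) hz
    have hsq : ∀ y, (z' * y) * (z' * y) = y * y := by
      intro y
      calc (z' * y) * (z' * y) = z' * (y * z') * y := by group
        _ = z' * (z' * y) * y := by rw [hzc y]
        _ = (z' * z') * (y * y) := by group
        _ = y * y := by rw [hzz, one_mul]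
    refine ⟨z' * i, z' * j, ?_⟩
    refine ⟨?_, ?_, ?_, ?_, he, ?_, ?_⟩
    · have : (z' * i) ^ 4 = ((z' * i) * (z' * i)) * ((z' * i) * (z' * i)) := by
        rw [← pow_two, ← pow_two, ← pow_mul]
      rw [this, hsq, hz2, hzz]
    · rw [pow_two, hsq, hz2]; exact hz1
    · rw [pow_two, pow_two, hsq, hsq, hj2]
    · calc z' * j * (z' * i) * (z' * j)⁻¹ = z' * (j * z') * i * j⁻¹ * z'⁻¹ := by group
        _ = z' * (z' * j) * i * j⁻¹ * z'⁻¹ := by rw [hzc j]
        _ = (z' * z') * (j * i * j⁻¹) * z'⁻¹ := by group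
        _ = i⁻¹ * z'⁻¹ := by rw [hzz, one_mul, hji, hinv]
        _ = (z' * i)⁻¹ := by group
    · calc e * (z' * i) * e⁻¹ = (e * z') * i * e⁻¹ := by group
        _ = (z' * e) * i * e⁻¹ := by rw [hzc e]
        _ = z' * j := by rw [hj]; group
    · calc e * (z' * j) * e⁻¹ = (e * z') * j * e⁻¹ := by group
        _ = (z' * e) * j * e⁻¹ := by rw [hzc e]
        _ = z' * (e * j * e⁻¹) := by group
        _ = z' * (i * j * z') := by rw [hej, hcz]
        _ = z' * i * (j * z') := by group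
        _ = z' * i * (z' * j) := by rw [hzc j]


set_option maxRecDepth 100000 in
theorem dec_A4 : ∀ τ : alternatingGroup (Fin 4), τ ^ 3 = 1 → τ ≠ 1 →
    ∃ s : alternatingGroup (Fin 4),
    s ^ 2 = 1 ∧ s ≠ 1 ∧ s * (τ * s * τ⁻¹) = (τ * s * τ⁻¹) * s ∧
      τ * (τ * s * τ⁻¹) * τ⁻¹ = s * (τ * s * τ⁻¹) := by
  decide +kernel

set_option maxRecDepth 100000 in
theorem dec_S4 : ∀ τ : Equiv.Perm (Fin 4), τ ^ 3 = 1 → τ ≠ 1 → ∃ s : Equiv.Perm (Fin 4),
    s ^ 2 = 1 ∧ s ≠ 1 ∧ s * (τ * s * τ⁻¹) = (τ * s * τ⁻¹) * s ∧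
      τ * (τ * s * τ⁻¹) * τ⁻¹ = s * (τ * s * τ⁻¹) := by
  decide +kernel

set_option maxRecDepth 100000 in
theorem dec_A5 : ∀ τ : alternatingGroup (Fin 5), τ ^ 3 = 1 → τ ≠ 1 →
    ∃ s : alternatingGroup (Fin 5),
    s ^ 2 = 1 ∧ s ≠ 1 ∧ s * (τ * s * τ⁻¹) = (τ * s * τ⁻¹) * s ∧
      τ * (τ * s * τ⁻¹) * τ⁻¹ = s * (τ * s * τ⁻¹) := by
  decide +kernel

variable {G : Type*} [Group G] [Finite G]

theorem exists_TD_of_three (h : ZHyp G) {w w' : G} (hw : w ^ 3 = 1) (hw' : w' ^ 3 = 1)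
    (hne : w * w' ≠ w' * w) :
    ∃ i j d : G, i ∈ closure {w, w'} ∧ j ∈ closure {w, w'} ∧ d ∈ closure {w, w'} ∧ TD i j d := by
  obtain ⟨X, hwX, hw'X, -, hAlt⟩ := h.planeA w w' hw hw' hne
  set Y := closure {w, w'} with hY
  have hYX : Y ≤ X := (closure_le _).2 (by
    rintro x (rfl | rfl)
    · exact hwX
    · exact hw'X)
  have hwY : w ∈ Y := subset_closure (by simp)
  have hw'Y : w' ∈ Y := subset_closure (by simp)
  have huniq : ∀ s t : Y, orderOf s = 2 → orderOf t = 2 → s = t := fun s t hs ht =>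
    Subtype.ext (h.inv_unique _ _ (by rwa [Subgroup.orderOf_coe]) (by rwa [Subgroup.orderOf_coe]))
  have key : ∀ {Γ : Type} [Group Γ] (f : Y →* Γ), Function.Surjective f → f.ker ≤ center Y →
      (∀ τ : Γ, τ ^ 3 = 1 → τ ≠ 1 → ∃ s : Γ,
        s ^ 2 = 1 ∧ s ≠ 1 ∧ s * (τ * s * τ⁻¹) = (τ * s * τ⁻¹) * s ∧
        τ * (τ * s * τ⁻¹) * τ⁻¹ = s * (τ * s * τ⁻¹)) →
      ∃ i j d : G, i ∈ Y ∧ j ∈ Y ∧ d ∈ Y ∧ TD i j d := by
    intro Γ _ f hsurj hk hdec
    let e : Y := ⟨w, hwY⟩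
    have he : e ^ 3 = 1 := Subtype.ext (by simpa using hw)
    have hker : ∀ x : Y, f x = 1 → ∀ y : Y, x * y = y * x := fun x hx y =>
      (Subgroup.mem_center_iff.1 (hk (MonoidHom.mem_ker.2 hx)) y).symm
    have hfe : f e ≠ 1 := fun h1 => hne (congrArg Subtype.val (hker e h1 ⟨w', hw'Y⟩))
    obtain ⟨s, h1, h2, h3, h4⟩ := hdec (f e) (by rw [← map_pow, he, map_one]) hfe
    obtain ⟨i₀, rfl⟩ := hsurj s
    obtain ⟨i, j, T⟩ := lemC f hker huniq e i₀ he ⟨by rw [← pow_two]; exact h1, h2, h3, h4⟩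
    exact ⟨i, j, e, i.2, j.2, e.2, T.map Y.subtype (Subgroup.subtype_injective _)⟩
  rcases hAlt Y hYX with h1 | ⟨B, hB, hBc⟩ | ⟨f, hf, hk⟩ | ⟨f, hf, hk⟩ | ⟨f, hf, hk⟩
  · exact absurd (congrArg Subtype.val (h1 ⟨w, hwY⟩ ⟨w', hw'Y⟩)) hne
  · exfalso
    have hmem : ∀ x : Y, x ^ 3 = 1 → x ∈ B := by
      intro x hx
      have : x = (x ^ 2) ^ 2 := by
        rw [← pow_mul]
        have : x ^ (2 * 2) = x ^ 3 * x := by rw [← pow_succ]
        rw [this, hx, one_mul]
      rw [this]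
      exact hB _
    exact hne (congrArg Subtype.val (hBc ⟨w, hwY⟩ (hmem _ (Subtype.ext (by simpa using hw)))
      ⟨w', hw'Y⟩ (hmem _ (Subtype.ext (by simpa using hw')))))
  · exact key f hf hk dec_A4
  · exact key f hf hk dec_S4
  · exact key f hf hk dec_A5

end Cfsg.Agent.Lib.Helper58.Zas
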