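import Mathlib

set_option autoImplicit false

namespace Cfsg.Agent.Lib.Helper58.FS

theorem conj_lift {Γ : Type*} [Group Γ] (τ δ : Γ) (m : ℕ) (hm : Odd m) (h1 : τ * τ = 1)
    (h2 : (τ * δ) * (τ * δ) = 1) (h3 : δ ^ m = 1) :
    δ ^ ((m + 1) / 2) * (τ * δ) * (δ ^ ((m + 1) / 2))⁻¹ = τ := by
  obtain ⟨j, rfl⟩ := hm
  have hj : (2 * j + 1 + 1) / 2 = j + 1 := by omega
  rw [hj]
  set f := δ ^ (j + 1) with hf
  have hff : f * f = δ := by
    rw [hf, ← pow_add]
    have : j + 1 + (j + 1) = (2 * j + 1) + 1 := by ring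
    rw [this, pow_succ, h3, one_mul]
  have hτ : τ⁻¹ = τ := inv_eq_of_mul_eq_one_left h1
  have hs : SemiconjBy τ δ δ⁻¹ := by
    show τ * δ = δ⁻¹ * τ
    have h4 : (τ * δ)⁻¹ = τ * δ := inv_eq_of_mul_eq_one_left h2
    rw [← h4, mul_inv_rev, hτ]
  have hs' : τ * f = f⁻¹ * τ := by
    have := hs.pow_right (j + 1)
    rw [inv_pow] at this
    exact this
  calc f * (τ * δ) * f⁻¹ = f * (τ * (f * f)) * f⁻¹ := by rw [hff]
    _ = f * (τ * f) := by group
    _ = f * (f⁻¹ * τ) := by rw [hs']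
    _ = τ := by group

/-- P2 -/
theorem exists_small_quadratic {T : Type*} [Group T] [Finite T] {p : ℕ} [Fact p.Prime] (hp2 : p ≠ 2)
    (hT : IsPGroup p T) (E : Subgroup T) (hEc : ∀ e ∈ E, ∀ u : T, e * u = u * e)
    (hab : ∀ u v : T, u * v * u⁻¹ * v⁻¹ ∈ E)
    (𝓛 : Subgroup (MulAut T)) (hE : ∀ l ∈ 𝓛, ∀ e ∈ E, l e ∈ E)
    (hker : ∀ l ∈ 𝓛, (∀ u : T, l u * u⁻¹ ∈ E) → ∃ n : ℕ, l ^ p ^ n = 1)
    (t : MulAut T) (ht : t ∈ 𝓛) (htE : ∀ e ∈ E, t e = e) (hinv : ∀ u : T, t u * u ∈ E) (ht2 : t * t = 1)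
    (k w : MulAut T) (hk : k ∈ 𝓛) (hw : w ∈ 𝓛) (a b : T)
    (hka : k a * a⁻¹ ∈ E) (hkb : k b * (a * b)⁻¹ ∈ E) (hwa : w a * b ∈ E) (hwb : w b * a⁻¹ ∈ E) :
    ∃ (T₀ : Subgroup T) (k' w' : MulAut T) (a' : T), k' ∈ 𝓛 ∧ w' ∈ 𝓛 ∧
      (∀ u : T, k' u * (k u)⁻¹ ∈ E) ∧ (∀ u : T, w' u * (w u)⁻¹ ∈ E) ∧
      (∀ u ∈ T₀, k' u ∈ T₀) ∧ (∀ u ∈ T₀, w' u ∈ T₀) ∧ a' ∈ T₀ ∧ a' * a⁻¹ ∈ E ∧
      ∀ u ∈ T₀, k' (k' u * u⁻¹) = k' u * u⁻¹ := by
  classical
  have hpodd : Odd p := (Fact.out : p.Prime).odd_of_ne_two hp2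
  have hN : E.Normal := ⟨fun e he g => by rw [← hEc e he g, mul_inv_cancel_right]; exact he⟩
  let π : T →* T ⧸ E := QuotientGroup.mk' E
  have hπE : ∀ x : T, x ∈ E ↔ π x = 1 := fun x => (QuotientGroup.eq_one_iff x).symm
  have hπ : ∀ x y : T, x * y⁻¹ ∈ E ↔ π x = π y := by
    intro x y
    rw [hπE, map_mul, map_inv, mul_inv_eq_one]
  have hπc : ∀ x y : T, π x * π y = π y * π x := by
    intro x y
    have h1 := (hπE _).1 (hab x y)
    simp only [map_mul, map_inv] at h1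
    calc π x * π y = (π x * π y * (π x)⁻¹ * (π y)⁻¹) * (π y * π x) := by group
      _ = _ := by rw [h1, one_mul]
  have hl : ∀ l ∈ 𝓛, ∀ x y : T, π x = π y → π (l x) = π (l y) := by
    intro l hlL x y hxy
    rw [← hπ] at hxy ⊢
    have := hE l hlL _ hxy
    rwa [map_mul, map_inv] at this
  have ht' : ∀ u : T, π (t u) = (π u)⁻¹ := by
    intro u
    have h1 := (hπE _).1 (hinv u)
    rw [map_mul] at h1
    exact eq_inv_of_mul_eq_one_left h1
  have htt : ∀ u : T, t (t u) = u := by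
    intro u
    have := DFunLike.congr_fun ht2 u
    simpa using this
  -- square roots
  obtain ⟨n₀, hn₀⟩ := (IsPGroup.iff_card.1 hT)
  have hNodd : Odd (Nat.card T) := by rw [hn₀]; exact hpodd.pow
  obtain ⟨j, hj⟩ := hNodd
  set M := j + 1 with hMdef
  have hM : ∀ x : T, x ^ (2 * M) = x := by
    intro x
    have : 2 * M = Nat.card T + 1 := by rw [hj, hMdef]; ring
    rw [this, pow_succ, pow_card_eq_one', one_mul]
  -- commuting lifts
  have lift : ∀ h ∈ 𝓛, ∃ h' ∈ 𝓛, h' * t = t * h' ∧ ∀ u : T, π (h' u) = π (h u) := by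
    intro h hh
    have htinv : t⁻¹ = t := inv_eq_of_mul_eq_one_left ht2
    set δ := t⁻¹ * h * t * h⁻¹ with hδ
    have hδL : δ ∈ 𝓛 := 𝓛.mul_mem (𝓛.mul_mem (𝓛.mul_mem (𝓛.inv_mem ht) hh) ht) (𝓛.inv_mem hh)
    have hδE : ∀ u : T, π (δ u) = π u := by
      intro u
      show π (t⁻¹ (h (t (h⁻¹ u)))) = π u
      have h1 : π (t (h⁻¹ u)) = π ((h⁻¹ u)⁻¹) := by rw [ht', map_inv]
      rw [htinv, ht', hl h hh _ _ h1, map_inv, MulAut.apply_inv_self, map_inv, inv_inv]
    obtain ⟨n, hn⟩ := hker δ hδL (fun u => (hπ _ _).2 (hδE u))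
    have h3 : t * δ = h * t * h⁻¹ := by rw [hδ]; group
    have h4 : (t * δ) * (t * δ) = 1 := by
      rw [h3]
      calc h * t * h⁻¹ * (h * t * h⁻¹) = h * (t * t) * h⁻¹ := by group
        _ = 1 := by rw [ht2]; group
    have key := conj_lift t δ (p ^ n) hpodd.pow ht2 h4 hn
    set f := δ ^ ((p ^ n + 1) / 2) with hf
    refine ⟨f * h, 𝓛.mul_mem (𝓛.pow_mem hδL _) hh, ?_, ?_⟩
    · rw [h3] at key
      calc f * h * t = (f * (h * t * h⁻¹) * f⁻¹) * (f * h) := by group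
        _ = t * (f * h) := by rw [key]
    · intro u
      have hpow : ∀ i : ℕ, ∀ v : T, π ((δ ^ i) v) = π v := by
        intro i
        induction i with
        | zero => intro v; simp
        | succ i ih =>
          intro v
          rw [pow_succ, MulAut.mul_apply, ih, hδE]
      exact hpow _ _
  -- the inverted lift
  let ι : T → T := fun u => (u * (t u)⁻¹) ^ M
  have hι1 : ∀ u : T, t (ι u) = (ι u)⁻¹ := by
    intro u
    show t ((u * (t u)⁻¹) ^ M) = ((u * (t u)⁻¹) ^ M)⁻¹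
    rw [map_pow, map_mul, map_inv, htt, ← inv_pow, mul_inv_rev, inv_inv]
  have hι2 : ∀ u : T, π (ι u) = π u := by
    intro u
    show π ((u * (t u)⁻¹) ^ M) = π u
    rw [map_pow, map_mul, map_inv, ht', inv_inv, ← pow_two, ← pow_mul, ← map_pow, hM]
  have uniq : ∀ u u' : T, t u = u⁻¹ → t u' = u'⁻¹ → π u = π u' → u = u' := by
    intro u u' hu hu' huu
    have he : u' * u⁻¹ ∈ E := (hπ _ _).2 huu.symm
    have h1 := htE _ he
    rw [map_mul, map_inv, hu, hu', inv_inv] at h1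
    have h2 : (u' * u⁻¹) * (u' * u⁻¹) = 1 := by
      calc (u' * u⁻¹) * (u' * u⁻¹) = (u' * u⁻¹) * (u'⁻¹ * u) := by rw [h1]
        _ = ((u' * u⁻¹) * u'⁻¹) * u := by group
        _ = (u'⁻¹ * (u' * u⁻¹)) * u := by rw [hEc _ he]
        _ = 1 := by group
    have h3 : u' * u⁻¹ = 1 := by
      rw [← hM (u' * u⁻¹), pow_mul, pow_two, h2, one_pow]
    exact (mul_inv_eq_one.1 h3).symm
  have hinvd : ∀ h' : MulAut T, h' * t = t * h' → ∀ x : T, t x = x⁻¹ → t (h' x) = (h' x)⁻¹ := by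
    intro h' hh' x hx
    have := DFunLike.congr_fun hh' x
    rw [MulAut.mul_apply, MulAut.mul_apply, hx, map_inv] at this
    exact this.symm
  obtain ⟨k', hk'L, hk't, hk'π⟩ := lift k hk
  obtain ⟨w', hw'L, hw't, hw'π⟩ := lift w hw
  set a' := ι a with ha'
  set b' := ι b with hb'
  set s := a' ^ M with hs
  have hta : t a' = a'⁻¹ := hι1 a
  have htb : t b' = b'⁻¹ := hι1 b
  have hπa : π a' = π a := hι2 a
  have hπb : π b' = π b := hι2 b
  have hts : t s = s⁻¹ := by rw [hs, map_pow, hta, inv_pow]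
  have hss : s * s = a' := by rw [hs, ← pow_add, ← two_mul, hM]
  have hk'a : k' a' = a' := by
    apply uniq _ _ (hinvd k' hk't a' hta) hta
    rw [hk'π, hl k hk _ _ hπa, (hπ _ _).1 hka, hπa]
  have hw'a : w' a' = b'⁻¹ := by
    apply uniq _ _ (hinvd w' hw't a' hta) (by rw [map_inv, htb])
    have h1 := (hπE _).1 hwa
    rw [map_mul] at h1
    rw [hw'π, hl w hw _ _ hπa, eq_inv_of_mul_eq_one_left h1, map_inv, hπb]
  have hw'b : w' b' = a' := by
    apply uniq _ _ (hinvd w' hw't b' htb) hta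
    rw [hw'π, hl w hw _ _ hπb, (hπ _ _).1 hwb, hπa]
  have hk'b : k' b' = s * b' * s := by
    apply uniq _ _ (hinvd k' hk't b' htb)
    · rw [map_mul, map_mul, hts, htb]; group
    · rw [hk'π, hl k hk _ _ hπb, (hπ _ _).1 hkb, map_mul, map_mul, map_mul, hπc s b', mul_assoc,
        ← map_mul π s s, hss, hπc b' a', hπa, hπb]
  have hk's : k' s = s := by rw [hs, map_pow, hk'a]
  set T₀ : Subgroup T := Subgroup.closure {a', b'} with hT₀
  have haT : a' ∈ T₀ := Subgroup.subset_closure (by simp)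
  have hbT : b' ∈ T₀ := Subgroup.subset_closure (by simp)
  have hsT : s ∈ T₀ := T₀.pow_mem haT _
  have hkT : ∀ u ∈ T₀, k' u ∈ T₀ := by
    intro u hu
    induction hu using Subgroup.closure_induction with
    | mem x hx =>
      rcases hx with rfl | hx
      · rw [hk'a]; exact haT
      · rw [Set.mem_singleton_iff] at hx
        rw [hx, hk'b]
        exact T₀.mul_mem (T₀.mul_mem hsT hbT) hsT
    | one => rw [map_one]; exact T₀.one_mem
    | mul x y _ _ hx hy => rw [map_mul]; exact T₀.mul_mem hx hy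
    | inv x _ hx => rw [map_inv]; exact T₀.inv_mem hx
  have hwT : ∀ u ∈ T₀, w' u ∈ T₀ := by
    intro u hu
    induction hu using Subgroup.closure_induction with
    | mem x hx =>
      rcases hx with rfl | hx
      · rw [hw'a]; exact T₀.inv_mem hbT
      · rw [Set.mem_singleton_iff] at hx
        rw [hx, hw'b]
        exact haT
    | one => rw [map_one]; exact T₀.one_mem
    | mul x y _ _ hx hy => rw [map_mul]; exact T₀.mul_mem hx hy
    | inv x _ hx => rw [map_inv]; exact T₀.inv_mem hx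
  -- elements over the cyclic group generated by `π a'` commute
  have hcommF : ∀ x y : T, π x ∈ Subgroup.zpowers (π a') → π y ∈ Subgroup.zpowers (π a') →
      x * y = y * x := by
    intro x y hx hy
    obtain ⟨i, hi⟩ := Subgroup.mem_zpowers_iff.1 hx
    obtain ⟨i', hi'⟩ := Subgroup.mem_zpowers_iff.1 hy
    rw [← map_zpow] at hi hi'
    have he1 : x * (a' ^ i)⁻¹ ∈ E := (hπ _ _).2 hi.symm
    have he2 : y * (a' ^ i')⁻¹ ∈ E := (hπ _ _).2 hi'.symm
    have hx' : x = (x * (a' ^ i)⁻¹) * a' ^ i := by group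
    have hy' : y = (y * (a' ^ i')⁻¹) * a' ^ i' := by group
    have c1 : ∀ v : T, Commute (x * (a' ^ i)⁻¹) v := fun v => hEc _ he1 v
    have c2 : ∀ v : T, Commute (y * (a' ^ i')⁻¹) v := fun v => hEc _ he2 v
    have c3 : Commute (a' ^ i) (a' ^ i') := (Commute.refl a').zpow_zpow i i'
    have : Commute ((x * (a' ^ i)⁻¹) * a' ^ i) ((y * (a' ^ i')⁻¹) * a' ^ i') :=
      Commute.mul_left (c1 _) (Commute.mul_right (c2 _).symm c3)
    rw [← hx', ← hy'] at this
    exact this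
  have hconjπ : ∀ u x : T, π (u * x * u⁻¹) = π x := by
    intro u x
    rw [map_mul, map_mul, map_inv, hπc u x, mul_inv_cancel_right]
  have hP : ∀ u ∈ T₀, k' (k' u * u⁻¹) = k' u * u⁻¹ ∧
      π (k' u * u⁻¹) ∈ Subgroup.zpowers (π a') := by
    intro u hu
    induction hu using Subgroup.closure_induction with
    | mem x hx =>
      rcases hx with rfl | hx
      · rw [hk'a, mul_inv_cancel, map_one, map_one]
        exact ⟨rfl, Subgroup.one_mem _⟩
      · rw [Set.mem_singleton_iff] at hx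
        rw [hx]
        have hπs : π s ∈ Subgroup.zpowers (π a') := by
          rw [hs, map_pow]; exact Subgroup.pow_mem _ (Subgroup.mem_zpowers _) _
        constructor
        · have hq : s * (b' * s * b'⁻¹) = (b' * s * b'⁻¹) * s :=
            hcommF _ _ hπs (by rw [hconjπ]; exact hπs)
          rw [hk'b, map_mul, map_mul, map_mul, map_inv, hk's, hk'b]
          calc s * (s * b' * s) * s * (s * b' * s)⁻¹ = s * (s * (b' * s * b'⁻¹)) * s⁻¹ := by group
            _ = s * ((b' * s * b'⁻¹) * s) * s⁻¹ := by rw [hq]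
            _ = s * b' * s * b'⁻¹ := by group
        · have : π (k' b' * b'⁻¹) = π a' := by
            rw [map_mul, hk'π, hl k hk _ _ hπb, (hπ _ _).1 hkb, map_mul, map_inv, hπb,
              mul_inv_cancel_right, hπa]
          rw [this]
          exact Subgroup.mem_zpowers _
    | one =>
      rw [map_one, inv_one, mul_one, map_one, map_one]
      exact ⟨rfl, Subgroup.one_mem _⟩
    | mul u v _ _ hu hv =>
      obtain ⟨hcu, hπu⟩ := hu
      obtain ⟨hcv, hπv⟩ := hv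
      set cu := k' u * u⁻¹ with hcudef
      set cv := k' v * v⁻¹ with hcvdef
      clear_value cu cv
      have hku : k' u = cu * u := by rw [hcudef]; group
      have hkv : k' v = cv * v := by rw [hcvdef]; group
      have e1 : k' (u * v) * (u * v)⁻¹ = cu * (u * cv * u⁻¹) := by
        rw [map_mul, hku, hkv]; group
      rw [e1]
      constructor
      · have hc : cu * (u * cv * u⁻¹) = (u * cv * u⁻¹) * cu :=
          hcommF _ _ hπu (by rw [hconjπ]; exact hπv)
        rw [map_mul, map_mul, map_mul, map_inv, hcu, hcv, hku]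
        calc cu * (cu * u * cv * (cu * u)⁻¹) = cu * ((cu * (u * cv * u⁻¹)) * cu⁻¹) := by group
          _ = cu * ((u * cv * u⁻¹) * cu * cu⁻¹) := by rw [hc]
          _ = _ := by group
      · rw [map_mul, hconjπ]
        exact Subgroup.mul_mem _ hπu hπv
    | inv u _ hu =>
      obtain ⟨hcu, hπu⟩ := hu
      set cu := k' u * u⁻¹ with hcudef
      clear_value cu
      have hku : k' u = cu * u := by rw [hcudef]; group
      have e1 : k' u⁻¹ * u⁻¹⁻¹ = u⁻¹ * cu⁻¹ * u⁻¹⁻¹ := by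
        rw [map_inv, hku]; group
      rw [e1]
      constructor
      · rw [map_mul, map_mul, map_inv, map_inv, map_inv, map_inv, hcu, hku]
        group
      · rw [hconjπ, map_inv]
        exact Subgroup.inv_mem _ hπu
  exact ⟨T₀, k', w', a', hk'L, hw'L, fun u => (hπ _ _).2 (hk'π u), fun u => (hπ _ _).2 (hw'π u),
    hkT, hwT, haT, (hπ _ _).2 hπa, fun u hu => (hP u hu).1⟩

end Cfsg.Agent.Lib.Helper58.FS
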