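import Mathlib

set_option autoImplicit false

namespace Cfsg.Agent.Lib.Helper58.HH

open Module

section
variable {K : Type*} [Field K] {V : Type*} [AddCommGroup V] [Module K V]
  {H : Type*} [Group H] (σ : Representation K H V)

theorem rep_inv_mul (g : H) : σ g⁻¹ * σ g = 1 := by rw [← map_mul, inv_mul_cancel, map_one]

theorem rep_mul_inv (g : H) : σ g * σ g⁻¹ = 1 := by rw [← map_mul, mul_inv_cancel, map_one]

theorem rep_injective (g : H) : Function.Injective (σ g) := by
  intro x y h
  have := congrArg (σ g⁻¹) h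
  rwa [← Module.End.mul_apply, ← Module.End.mul_apply, rep_inv_mul, Module.End.one_apply,
    Module.End.one_apply] at this

/-- Schur's lemma -/
theorem schur [IsAlgClosed K] [FiniteDimensional K V] [Nontrivial V]
    (hirr : ∀ W : Submodule K V, (∀ g, Submodule.map (σ g) W ≤ W) → W = ⊥ ∨ W = ⊤)
    (T : Module.End K V) (hT : ∀ g, T * σ g = σ g * T) : ∃ μ : K, ∀ v, T v = μ • v := by
  obtain ⟨μ, hμ⟩ := Module.End.exists_eigenvalue T
  refine ⟨μ, ?_⟩
  rcases hirr (T.eigenspace μ) (by
    intro g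
    rintro _ ⟨v, hv, rfl⟩
    rw [SetLike.mem_coe, Module.End.mem_eigenspace_iff] at hv
    rw [Module.End.mem_eigenspace_iff, ← Module.End.mul_apply, hT, Module.End.mul_apply, hv,
      map_smul]) with h | h
  · exact absurd h hμ
  · intro v
    have : v ∈ T.eigenspace μ := by rw [h]; trivial
    exact Module.End.mem_eigenspace_iff.1 this

theorem finrank_eq_one_of_scalar [FiniteDimensional K V] [Nontrivial V]
    (hirr : ∀ W : Submodule K V, (∀ g, Submodule.map (σ g) W ≤ W) → W = ⊥ ∨ W = ⊤)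
    (hs : ∀ g, ∃ μ : K, ∀ v, σ g v = μ • v) : finrank K V = 1 := by
  obtain ⟨v, hv⟩ := exists_ne (0 : V)
  rcases hirr (Submodule.span K {v}) (by
    intro g
    obtain ⟨μ, hμ⟩ := hs g
    rintro _ ⟨w, hw, rfl⟩
    rw [hμ]
    exact Submodule.smul_mem _ _ hw) with h | h
  · exact absurd (Submodule.span_singleton_eq_bot.1 h) hv
  · rw [← finrank_top K V, ← h]
    exact finrank_span_singleton hv

end

/-- P5a -/
theorem finrank_eq_one_of_comm {K : Type*} [Field K] [IsAlgClosed K] {V : Type*} [AddCommGroup V] [Module K V]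
    [FiniteDimensional K V] [Nontrivial V] {H : Type*} [Group H] (σ : Representation K H V)
    (hirr : ∀ W : Submodule K V, (∀ g, Submodule.map (σ g) W ≤ W) → W = ⊥ ∨ W = ⊤)
    (hcomm : ∀ a b : H, a * b = b * a) : finrank K V = 1 := by
  refine finrank_eq_one_of_scalar σ hirr ?_
  intro a
  refine schur σ hirr (σ a) ?_
  intro g
  rw [← map_mul, ← map_mul, hcomm]

section
variable {K : Type*} [Field K] {V : Type*} [AddCommGroup V] [Module K V]
  {H : Type*} [Group H] (σ : Representation K H V)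

theorem rep_mul_apply (g h : H) (v : V) : σ (g * h) v = σ g (σ h v) := by
  rw [map_mul, Module.End.mul_apply]

theorem rep_inv_apply (g : H) (v : V) : σ g⁻¹ (σ g v) = v := by
  rw [← rep_mul_apply, inv_mul_cancel, map_one, Module.End.one_apply]

theorem rep_apply_inv (g : H) (v : V) : σ g (σ g⁻¹ v) = v := by
  rw [← rep_mul_apply, mul_inv_cancel, map_one, Module.End.one_apply]

/-- the elements acting as scalars -/
def scalarSub : Subgroup H where
  carrier := {g | ∃ μ : K, ∀ v, σ g v = μ • v}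
  mul_mem' := by
    rintro a b ⟨μ, hμ⟩ ⟨ν, hν⟩
    exact ⟨ν * μ, fun v => by rw [rep_mul_apply, hν, map_smul, hμ, smul_smul]⟩
  one_mem' := ⟨1, fun v => by simp⟩
  inv_mem' := by
    rintro g ⟨μ, hμ⟩
    refine ⟨μ⁻¹, fun v => ?_⟩
    have h1 : μ • σ g⁻¹ v = v := by rw [← hμ, rep_apply_inv]
    by_cases h0 : μ = 0
    · have hv : v = 0 := by rw [← h1, h0, zero_smul]
      rw [hv, map_zero, smul_zero]
    · rw [← h1, smul_smul, inv_mul_cancel₀ h0, one_smul, h1]

instance scalarSub_normal : (scalarSub σ).Normal := by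
  refine ⟨?_⟩
  rintro g ⟨μ, hμ⟩ h
  refine ⟨μ, fun v => ?_⟩
  rw [rep_mul_apply, rep_mul_apply, hμ, map_smul, rep_apply_inv]

/-- the elements commuting with `σ a` -/
def commSub (a : H) : Subgroup H where
  carrier := {g | ∀ v, σ a (σ g v) = σ g (σ a v)}
  mul_mem' := by
    intro g h hg hh v
    rw [rep_mul_apply, hg, hh, rep_mul_apply]
  one_mem' := fun v => by simp
  inv_mem' := by
    intro g hg v
    apply rep_injective σ g
    rw [← hg, rep_apply_inv, rep_apply_inv]

theorem finrank_eq_card_mul_of_indep [FiniteDimensional K V] {ι : Type*} [Fintype ι]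
    (D : ι → Submodule K V) (hi : iSupIndep D) (hs : iSup D = ⊤) (n : ℕ)
    (hn : ∀ i, finrank K (D i) = n) : finrank K V = Fintype.card ι * n := by
  classical
  have hint := DirectSum.isInternal_submodule_of_iSupIndep_of_iSup_eq_top hi hs
  have e := LinearEquiv.ofBijective (DirectSum.coeLinearMap D) hint
  rw [← e.finrank_eq, Module.finrank_directSum]
  simp [hn]

/-- the Clifford step -/
theorem clifford_step [IsAlgClosed K] [FiniteDimensional K V] [Nontrivial V] [Finite H]
    (q : ℕ) [Fact q.Prime] (hH : IsPGroup q H)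
    (hirr : ∀ W : Submodule K V, (∀ g, Submodule.map (σ g) W ≤ W) → W = ⊥ ∨ W = ⊤)
    (hns : ¬ ∀ g, ∃ μ : K, ∀ v, σ g v = μ • v) :
    ∃ (C : Subgroup H) (W' : Submodule K V), C ≠ ⊤ ∧ W' ≠ ⊥ ∧
      (∀ c ∈ C, Submodule.map (σ c) W' ≤ W') ∧
      (∀ U : Submodule K V, U ≤ W' → (∀ c ∈ C, Submodule.map (σ c) U ≤ U) → U = ⊥ ∨ U = W') ∧
      finrank K V = C.index * finrank K W' := by
  classical
  have hZne : scalarSub σ ≠ ⊤ := by
    intro h
    apply hns
    intro g
    have : g ∈ scalarSub σ := by rw [h]; trivial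
    exact this
  have hnt : Nontrivial (H ⧸ scalarSub σ) := QuotientGroup.nontrivial_iff.2 hZne
  have hcn := (hH.to_quotient (scalarSub σ)).center_nontrivial
  obtain ⟨⟨zb, hzb⟩, hzb1⟩ := exists_ne (1 : Subgroup.center (H ⧸ scalarSub σ))
  obtain ⟨a, rfl⟩ := QuotientGroup.mk_surjective zb
  have haZ : a ∉ scalarSub σ := by
    intro h
    apply hzb1
    apply Subtype.ext
    exact (QuotientGroup.eq_one_iff a).2 h
  have hχ : ∀ g, ∃ c : K, ∀ v, σ a (σ g v) = c • σ g (σ a v) := by
    intro g
    have h1 := Subgroup.mem_center_iff.1 hzb (g : H ⧸ scalarSub σ)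
    rw [← QuotientGroup.mk_mul, ← QuotientGroup.mk_mul, QuotientGroup.eq] at h1
    obtain ⟨c, hc⟩ := h1
    refine ⟨c, fun v => ?_⟩
    have h2 : a * g = (g * a) * ((g * a)⁻¹ * (a * g)) := by group
    rw [← rep_mul_apply, h2, rep_mul_apply, hc, map_smul, rep_mul_apply]
  choose χ hχ using hχ
  have hχ0 : ∀ g, χ g ≠ 0 := by
    intro g h0
    obtain ⟨v, hv⟩ := exists_ne (0 : V)
    apply hv
    have := hχ g v
    rw [h0, zero_smul] at this
    have h2 : σ g v = 0 := rep_injective σ a (by rw [this, map_zero])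
    exact rep_injective σ g (by rw [h2, map_zero])
  obtain ⟨μ, hμ⟩ := Module.End.exists_eigenvalue (σ a)
  set C := commSub σ a with hC
  have hCne : C ≠ ⊤ := by
    intro h
    apply haZ
    refine schur σ hirr (σ a) ?_
    intro g
    ext v
    have : g ∈ C := by rw [h]; trivial
    exact this v
  set E := Module.End.eigenspace (σ a) μ with hE
  have hEinv : ∀ c ∈ C, Submodule.map (σ c) E ≤ E := by
    rintro c hc _ ⟨v, hv, rfl⟩
    rw [SetLike.mem_coe, hE, Module.End.mem_eigenspace_iff] at hv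
    rw [hE, Module.End.mem_eigenspace_iff, hc v, hv, map_smul]
  obtain ⟨W', hW'S, hmin⟩ := wellFounded_lt.has_min
    {W : Submodule K V | W ≠ ⊥ ∧ W ≤ E ∧ ∀ c ∈ C, Submodule.map (σ c) W ≤ W} ⟨E, hμ, le_rfl, hEinv⟩
  obtain ⟨hW'0, hW'E, hW'inv⟩ := hW'S
  have hminimal : ∀ U : Submodule K V, U ≤ W' → (∀ c ∈ C, Submodule.map (σ c) U ≤ U) →
      U = ⊥ ∨ U = W' := by
    intro U hU hUinv
    by_cases h0 : U = ⊥
    · exact Or.inl h0
    · right
      by_contra hne
      exact hmin U ⟨h0, hU.trans hW'E, hUinv⟩ (lt_of_le_of_ne hU hne)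
  refine ⟨C, W', hCne, hW'0, hW'inv, hminimal, ?_⟩
  have hmapmul : ∀ (g h : H) (U : Submodule K V),
      Submodule.map (σ (g * h)) U = Submodule.map (σ g) (Submodule.map (σ h) U) := by
    intro g h U
    rw [map_mul, Module.End.mul_eq_comp, Submodule.map_comp]
  have hmapone : ∀ U : Submodule K V, Submodule.map (1 : Module.End K V) U = U := by
    intro U
    exact Submodule.map_id U
  have key1 : ∀ c ∈ C, Submodule.map (σ c) W' = W' := by
    intro c hc
    refine le_antisymm (hW'inv c hc) ?_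
    have h1 := Submodule.map_mono (f := σ c) (hW'inv c⁻¹ (inv_mem hc))
    rw [← hmapmul, mul_inv_cancel, map_one, hmapone] at h1
    exact h1
  let D : H ⧸ C → Submodule K V := fun x => Submodule.map (σ x.out) W'
  have key2 : ∀ g : H, Submodule.map (σ g) W' = D (QuotientGroup.mk g) := by
    intro g
    obtain ⟨c, hc⟩ := QuotientGroup.mk_out_eq_mul C g
    show _ = Submodule.map (σ (QuotientGroup.mk g : H ⧸ C).out) W'
    rw [hc, hmapmul, key1 c c.2]
  have hsup : iSup D = ⊤ := by
    rcases hirr (iSup D) (by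
      intro h
      rw [Submodule.map_iSup]
      refine iSup_le ?_
      intro x
      show Submodule.map (σ h) (Submodule.map (σ x.out) W') ≤ _
      rw [← hmapmul, key2]
      exact le_iSup D _) with h | h
    · exfalso
      apply hW'0
      have h1 : D (QuotientGroup.mk 1) ≤ iSup D := le_iSup D _
      rw [← key2, map_one, h, hmapone] at h1
      exact le_bot_iff.1 h1
    · exact h
  have hDle : ∀ x : H ⧸ C, D x ≤ Module.End.eigenspace (σ a) (χ x.out * μ) := by
    rintro x _ ⟨w, hw, rfl⟩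
    have hwE := hW'E hw
    rw [hE, Module.End.mem_eigenspace_iff] at hwE
    rw [Module.End.mem_eigenspace_iff, hχ, hwE, map_smul, smul_smul]
  have hμ0 : μ ≠ 0 := by
    intro h0
    obtain ⟨v, hvE, hv0⟩ := Submodule.exists_mem_ne_zero_of_ne_bot hμ
    rw [Module.End.mem_eigenspace_iff, h0, zero_smul] at hvE
    exact hv0 (rep_injective σ a (by rw [hvE, map_zero]))
  have hinj : Function.Injective (fun x : H ⧸ C => χ x.out * μ) := by
    intro x y hxy
    have hxy' : χ x.out = χ y.out := mul_right_cancel₀ hμ0 hxy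
    rw [← QuotientGroup.out_eq' x, ← QuotientGroup.out_eq' y, QuotientGroup.eq]
    set g := x.out
    set g' := y.out
    intro v
    have h1 := hχ g (σ g⁻¹ (σ g' v))
    rw [rep_apply_inv, hχ g' v, hxy'] at h1
    have h2 : σ g' (σ a v) = σ g (σ a (σ g⁻¹ (σ g' v))) := by
      have := congrArg (fun w => (χ g')⁻¹ • w) h1
      simpa [smul_smul, inv_mul_cancel₀ (hχ0 g')] using this
    rw [rep_mul_apply, rep_mul_apply, h2, rep_inv_apply]
  have hind : iSupIndep D :=
    ((Module.End.eigenspaces_iSupIndep (σ a)).comp hinj).mono hDle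
  have hfin : Fintype (H ⧸ C) := Fintype.ofFinite _
  have hfr : ∀ x, finrank K (D x) = finrank K W' := by
    intro x
    exact (Submodule.equivMapOfInjective (σ x.out) (rep_injective σ x.out) W').finrank_eq.symm
  rw [finrank_eq_card_mul_of_indep D hind hsup _ hfr, Subgroup.index, Nat.card_eq_fintype_card]

end

theorem exists_finrank_eq_pow_aux {K : Type*} [Field K] [IsAlgClosed K] (q : ℕ) [Fact q.Prime] (n : ℕ) :
    ∀ {V : Type*} [AddCommGroup V] [Module K V] [FiniteDimensional K V] [Nontrivial V]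
      {H : Type*} [Group H] [Finite H], Nat.card H = n → IsPGroup q H →
      ∀ σ : Representation K H V,
        (∀ W : Submodule K V, (∀ g, Submodule.map (σ g) W ≤ W) → W = ⊥ ∨ W = ⊤) →
        ∃ b : ℕ, finrank K V = q ^ b := by
  induction n using Nat.strong_induction_on with
  | _ n ih =>
    intro V _ _ _ _ H _ _ hn hH σ hirr
    by_cases hs : ∀ g, ∃ μ : K, ∀ v, σ g v = μ • v
    · exact ⟨0, by rw [pow_zero]; exact finrank_eq_one_of_scalar σ hirr hs⟩
    obtain ⟨C, W', hCne, hW'0, hW'inv, hmin, hfr⟩ := clifford_step σ q hH hirr hs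
    have hmem : ∀ (c : ↥C), ∀ w ∈ W', σ (c : H) w ∈ W' :=
      fun c w hw => hW'inv c c.2 ⟨w, hw, rfl⟩
    let σC : Representation K ↥C ↥W' :=
      { toFun := fun c => (σ (c : H)).restrict (hmem c)
        map_one' := by
          ext w
          simp
        map_mul' := by
          intro c d
          ext w
          simp }
    have hσC : ∀ (c : ↥C) (w : ↥W'), ((σC c w : ↥W') : V) = σ (c : H) (w : V) := fun c w => rfl
    have hnt : Nontrivial ↥W' := (Submodule.nontrivial_iff_ne_bot).2 hW'0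
    have hirrC : ∀ U : Submodule K ↥W', (∀ c, Submodule.map (σC c) U ≤ U) → U = ⊥ ∨ U = ⊤ := by
      intro U hU
      have hinj : Function.Injective (Submodule.map W'.subtype) :=
        Submodule.map_injective_of_injective W'.subtype_injective
      rcases hmin (U.map W'.subtype) (Submodule.map_subtype_le W' U) (by
        rintro c hc _ ⟨_, ⟨w, hw, rfl⟩, rfl⟩
        exact ⟨σC ⟨c, hc⟩ w, hU ⟨c, hc⟩ ⟨w, hw, rfl⟩, rfl⟩) with h | h
      · left
        apply hinj
        rw [h, Submodule.map_bot]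
      · right
        apply hinj
        rw [h, Submodule.map_subtype_top]
    have hlt : Nat.card ↥C < n := by
      rw [← hn]
      refine lt_of_le_of_ne (Subgroup.card_le_card_group C) ?_
      intro h
      exact hCne (Subgroup.eq_top_of_card_eq C h)
    obtain ⟨b', hb'⟩ := ih _ hlt rfl (hH.to_subgroup C) σC hirrC
    obtain ⟨k, hk⟩ := hH.index C
    exact ⟨k + b', by rw [hfr, hk, hb', pow_add]⟩

/-- P5 -/
theorem exists_finrank_eq_pow {K : Type*} [Field K] [IsAlgClosed K] {V : Type*} [AddCommGroup V] [Module K V]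
    [FiniteDimensional K V] [Nontrivial V] {H : Type*} [Group H] [Finite H] (q : ℕ) [Fact q.Prime]
    (hH : IsPGroup q H) (σ : Representation K H V)
    (hirr : ∀ W : Submodule K V, (∀ g, Submodule.map (σ g) W ≤ W) → W = ⊥ ∨ W = ⊤) :
    ∃ b : ℕ, finrank K V = q ^ b :=
  exists_finrank_eq_pow_aux q _ rfl hH σ hirr

end Cfsg.Agent.Lib.Helper58.HH
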