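import Mathlib

set_option autoImplicit false

/-!
# Manning's theorem on extremely primitive groups (general form)

If `G` is primitive on a finite set `Ω` and every point stabiliser is primitive on each of its
orbits, then a subgroup `K` of `G_α` normalised by `G_α` which fixes a second point acts trivially.
-/

namespace Cfsg.Agent.Lib.Helper58

open MulAction

section Basic

variable {G : Type*} [Group G] {Ω : Type*} [MulAction G Ω]

/-- A nonempty subset invariant under two point stabilisers, the second not contained in the first,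
is everything. -/
theorem eq_univ_of_invariant [IsPreprimitive G Ω] (B : Set Ω) (hB : B.Nonempty) (γ γ' : Ω)
    (h1 : ∀ x : G, x • γ = γ → ∀ b ∈ B, x • b ∈ B)
    (h2 : ∀ x : G, x • γ' = γ' → ∀ b ∈ B, x • b ∈ B)
    (hne : ∃ y : G, y • γ' = γ' ∧ y • γ ≠ γ) : B = Set.univ := by
  obtain ⟨y, hy', hy⟩ := hne
  have : Nontrivial Ω := ⟨⟨y • γ, γ, hy⟩⟩
  have hco := IsPreprimitive.isCoatom_stabilizer_of_isPreprimitive (G := G) γ
  let S : Subgroup G :=
    { carrier := {x | ∀ b, x • b ∈ B ↔ b ∈ B}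
      one_mem' := by intro b; simp
      mul_mem' := by
        intro x y hx hy b
        rw [mul_smul, hx, hy]
      inv_mem' := by
        intro x hx b
        rw [← hx (x⁻¹ • b), smul_inv_smul] }
  have hS1 : stabilizer G γ ≤ S := by
    intro x hx b
    have hx' : x • γ = γ := hx
    constructor
    · intro hb
      have := h1 x⁻¹ (by rw [inv_smul_eq_iff]; exact hx'.symm) _ hb
      simpa using this
    · exact h1 x hx' b
  have hyS : y ∈ S := by
    intro b
    constructor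
    · intro hb
      have := h2 y⁻¹ (by rw [inv_smul_eq_iff]; exact hy'.symm) _ hb
      simpa using this
    · exact h2 y hy' b
  have hlt : stabilizer G γ < S := by
    refine lt_of_le_of_ne hS1 ?_
    intro h
    apply hy
    have : y ∈ stabilizer G γ := by rw [h]; exact hyS
    exact this
  have hST : S = ⊤ := hco.2 S hlt
  obtain ⟨b, hb⟩ := hB
  ext c
  simp only [Set.mem_univ, iff_true]
  obtain ⟨g, rfl⟩ := exists_smul_eq G b c
  have : g ∈ S := by rw [hST]; trivial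
  exact (this b).mpr hb

end Basic

section Manning

variable {G : Type*} [Group G] {Ω : Type*} [MulAction G Ω]

/-- The relation `γ → δ`: the conjugate at `γ` of `K₀ ⊴ G_{α₀}` fixes `δ`. -/
def mrel (α₀ : Ω) (K₀ : Subgroup G) (γ δ : Ω) : Prop :=
  ∃ g : G, g • α₀ = γ ∧ ∀ k ∈ K₀, k • (g⁻¹ • δ) = g⁻¹ • δ

variable {α₀ : Ω} {K₀ : Subgroup G}

theorem mrel_smul {γ δ : Ω} (x : G) (h : mrel α₀ K₀ γ δ) : mrel α₀ K₀ (x • γ) (x • δ) := by
  obtain ⟨g, hg, hk⟩ := h
  refine ⟨x * g, by rw [mul_smul, hg], ?_⟩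
  intro k hkK
  have : (x * g)⁻¹ • x • δ = g⁻¹ • δ := by
    rw [mul_inv_rev, mul_smul, inv_smul_smul]
  rw [this]
  exact hk k hkK

theorem mrel_smul_iff {γ δ : Ω} (x : G) : mrel α₀ K₀ (x • γ) (x • δ) ↔ mrel α₀ K₀ γ δ := by
  constructor
  · intro h
    have := mrel_smul x⁻¹ h
    simpa using this
  · exact mrel_smul x

theorem mrel_all (hn : stabilizer G α₀ ≤ Subgroup.normalizer (K₀ : Set G)) {γ δ : Ω}
    (h : mrel α₀ K₀ γ δ) (g : G) (hg : g • α₀ = γ) : ∀ k ∈ K₀, k • (g⁻¹ • δ) = g⁻¹ • δ := by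
  obtain ⟨g₁, hg₁, hk⟩ := h
  intro k hkK
  set s := g⁻¹ * g₁ with hs
  have hsα : s ∈ stabilizer G α₀ := by
    show s • α₀ = α₀
    rw [hs, mul_smul, hg₁, ← hg, inv_smul_smul]
  have hsn := hn hsα
  have h1 : g⁻¹ • δ = s • (g₁⁻¹ • δ) := by
    rw [hs, mul_smul, smul_inv_smul]
  have h2 : s⁻¹ * k * s ∈ K₀ := (Subgroup.mem_normalizer_iff''.mp hsn k).mp hkK
  rw [h1, ← mul_smul]
  have h3 : k * s = s * (s⁻¹ * k * s) := by group
  rw [h3, mul_smul, hk _ h2]

/-- the pointwise stabiliser of the set of points related to `γ`. -/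
def mK (α₀ : Ω) (K₀ : Subgroup G) (γ : Ω) : Subgroup G where
  carrier := {x | ∀ δ, mrel α₀ K₀ γ δ → x • δ = δ}
  one_mem' := by intro δ _; simp
  mul_mem' := by
    intro x y hx hy δ hδ
    rw [mul_smul, hy δ hδ, hx δ hδ]
  inv_mem' := by
    intro x hx δ hδ
    rw [inv_smul_eq_iff, hx δ hδ]

theorem mem_mK {γ : Ω} {x : G} : x ∈ mK α₀ K₀ γ ↔ ∀ δ, mrel α₀ K₀ γ δ → x • δ = δ := Iff.rfl

theorem mrel_refl [IsPretransitive G Ω] (hK : K₀ ≤ stabilizer G α₀) (γ : Ω) :
    mrel α₀ K₀ γ γ := by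
  obtain ⟨g, hg⟩ := exists_smul_eq G α₀ γ
  refine ⟨g, hg, ?_⟩
  intro k hk
  have : g⁻¹ • γ = α₀ := by rw [← hg, inv_smul_smul]
  rw [this]
  exact hK hk

theorem mK_fix [IsPretransitive G Ω] (hK : K₀ ≤ stabilizer G α₀) {γ : Ω} {x : G}
    (hx : x ∈ mK α₀ K₀ γ) : x • γ = γ := hx γ (mrel_refl hK γ)

theorem mK_conj {γ : Ω} {x : G} (hx : x ∈ mK α₀ K₀ γ) (h : G) :
    h * x * h⁻¹ ∈ mK α₀ K₀ (h • γ) := by
  intro δ hδ
  have h1 : mrel α₀ K₀ γ (h⁻¹ • δ) := by
    have := mrel_smul h⁻¹ hδ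
    simpa using this
  rw [mul_smul, mul_smul, hx _ h1, smul_inv_smul]

theorem mrel_iff_fixed [IsPretransitive G Ω]
    (hn : stabilizer G α₀ ≤ Subgroup.normalizer (K₀ : Set G)) {γ δ : Ω} :
    mrel α₀ K₀ γ δ ↔ ∀ x ∈ mK α₀ K₀ γ, x • δ = δ := by
  constructor
  · intro h x hx
    exact hx δ h
  · intro h
    obtain ⟨g, hg⟩ := exists_smul_eq G α₀ γ
    refine ⟨g, hg, ?_⟩
    intro k hk
    have h1 : g * k * g⁻¹ ∈ mK α₀ K₀ γ := by
      intro δ' hδ'
      rw [mul_smul, mul_smul, mrel_all hn hδ' g hg k hk, smul_inv_smul]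
    have h2 := h _ h1
    rw [mul_smul, mul_smul] at h2
    calc k • g⁻¹ • δ = g⁻¹ • (g • k • g⁻¹ • δ) := by rw [inv_smul_smul]
      _ = g⁻¹ • δ := by rw [h2]

/-- dichotomy: if the subgroup at `γ` moves `δ` it is transitive on the `G_γ`-orbit of `δ`. -/
theorem exists_mK_smul_eq [IsPretransitive G Ω] (hK : K₀ ≤ stabilizer G α₀)
    (hn : stabilizer G α₀ ≤ Subgroup.normalizer (K₀ : Set G))
    (hep : ∀ (α ω : Ω), IsPreprimitive (stabilizer G α) (orbit (stabilizer G α) ω))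
    {γ δ : Ω} (hδ : ¬ mrel α₀ K₀ γ δ) (h : G) (hh : h • γ = γ) :
    ∃ k ∈ mK α₀ K₀ γ, k • δ = h • δ := by
  have hprim := hep γ δ
  let N : Subgroup (stabilizer G γ) := (mK α₀ K₀ γ).subgroupOf (stabilizer G γ)
  have hN : N.Normal := by
    constructor
    intro n hn' g
    have h1 : (n : G) ∈ mK α₀ K₀ γ := hn'
    have h2 := mK_conj h1 (g : G)
    have h3 : (g : G) • γ = γ := g.2
    rw [h3] at h2
    exact h2
  have hfix : fixedPoints N (orbit (stabilizer G γ) δ) ≠ Set.univ := by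
    intro hall
    apply hδ
    rw [mrel_iff_fixed hn]
    intro x hx
    have hxγ : x ∈ stabilizer G γ := mK_fix hK hx
    have h1 : (⟨δ, mem_orbit_self δ⟩ : orbit (stabilizer G γ) δ) ∈
        fixedPoints N (orbit (stabilizer G γ) δ) := by rw [hall]; trivial
    have h2 := h1 ⟨⟨x, hxγ⟩, hx⟩
    exact congrArg Subtype.val h2
  have htr : IsPretransitive N (orbit (stabilizer G γ) δ) :=
    IsQuasiPreprimitive.isPretransitive_of_normal hfix
  obtain ⟨n, hn'⟩ := htr.exists_smul_eq (⟨δ, mem_orbit_self δ⟩ : orbit (stabilizer G γ) δ)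
    ⟨h • δ, ⟨⟨h, hh⟩, rfl⟩⟩
  exact ⟨((n : stabilizer G γ) : G), n.2, congrArg Subtype.val hn'⟩

/-- symmetry of the relation. -/
theorem mrel_symm [Finite Ω] [IsPreprimitive G Ω] (hK : K₀ ≤ stabilizer G α₀)
    (hn : stabilizer G α₀ ≤ Subgroup.normalizer (K₀ : Set G))
    (hep : ∀ (α ω : Ω), IsPreprimitive (stabilizer G α) (orbit (stabilizer G α) ω))
    {α δ : Ω} (h : mrel α₀ K₀ δ α) : mrel α₀ K₀ α δ := by
  by_contra hnot
  -- (b) a point related to α but not to δ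
  have hb : ∃ β, mrel α₀ K₀ α β ∧ ¬ mrel α₀ K₀ δ β := by
    by_contra hcon
    push Not at hcon
    obtain ⟨g, hg⟩ := exists_smul_eq G α δ
    have hsub : {β | mrel α₀ K₀ α β} ⊆ {β | mrel α₀ K₀ δ β} := hcon
    have himg : {β | mrel α₀ K₀ δ β} = (fun x => g • x) '' {β | mrel α₀ K₀ α β} := by
      ext β
      simp only [Set.mem_ofPred_eq, Set.mem_image]
      constructor
      · intro hβ
        refine ⟨g⁻¹ • β, ?_, smul_inv_smul g β⟩
        have := mrel_smul g⁻¹ hβ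
        rwa [← hg, inv_smul_smul] at this
      · rintro ⟨x, hx, rfl⟩
        rw [← hg]
        exact mrel_smul g hx
    have hcard : {β | mrel α₀ K₀ δ β}.ncard ≤ {β | mrel α₀ K₀ α β}.ncard := by
      rw [himg, Set.ncard_image_of_injective _ (MulAction.injective g)]
    have heq := Set.eq_of_subset_of_ncard_le hsub hcard (Set.toFinite _)
    have : δ ∈ {β | mrel α₀ K₀ α β} := by
      rw [heq]; exact mrel_refl hK δ
    exact hnot this
  obtain ⟨β, hαβ, hδβ⟩ := hb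
  -- B = orbit of β under G_δ
  let B : Set Ω := {x | ∃ y : G, y • δ = δ ∧ y • β = x}
  have hBsub : ∀ b ∈ B, ∃ k ∈ mK α₀ K₀ δ, k • β = b := by
    rintro b ⟨y, hy, rfl⟩
    exact exists_mK_smul_eq hK hn hep hδβ y hy
  have hKδα : ∀ k ∈ mK α₀ K₀ δ, k • α = α := fun k hk => hk α h
  have hBrel : ∀ b ∈ B, mrel α₀ K₀ α b := by
    intro b hb
    obtain ⟨k, hk, rfl⟩ := hBsub b hb
    have := mrel_smul k hαβ
    rwa [hKδα k hk] at this
  have hB2 : ∀ x : G, x • δ = δ → ∀ b ∈ B, x • b ∈ B := by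
    rintro x hx b ⟨y, hy, rfl⟩
    exact ⟨x * y, by rw [mul_smul, hy, hx], by rw [mul_smul]⟩
  have hB1 : ∀ x : G, x • α = α → ∀ b ∈ B, x • b ∈ B := by
    intro x hx b hb
    obtain ⟨k, hk, hkx⟩ := exists_mK_smul_eq hK hn hep hnot x hx
    -- x = k * (k⁻¹ * x)
    have h1 : (k⁻¹ * x) • δ = δ := by
      rw [mul_smul, ← hkx, inv_smul_smul]
    have h2 : (k⁻¹ * x) • b ∈ B := hB2 _ h1 b hb
    have h3 : k • ((k⁻¹ * x) • b) = (k⁻¹ * x) • b := hk _ (hBrel _ h2)
    have h4 : x • b = k • ((k⁻¹ * x) • b) := by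
      rw [← mul_smul, mul_inv_cancel_left]
    rw [h4, h3]
    exact h2
  have hne : ∃ y : G, y • α = α ∧ y • δ ≠ δ := by
    by_contra hcon
    push Not at hcon
    apply hnot
    rw [mrel_iff_fixed hn]
    intro x hx
    exact hcon x (mK_fix hK hx)
  have huniv : B = Set.univ :=
    eq_univ_of_invariant B ⟨β, 1, one_smul _ _, one_smul _ _⟩ δ α hB2 hB1 hne
  have hαB : α ∈ B := by rw [huniv]; trivial
  obtain ⟨k, hk, hkβ⟩ := hBsub α hαB
  have : β = α := by
    have h1 : k • β = k • α := by rw [hkβ, hKδα k hk]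
    exact MulAction.injective k h1
  rw [this] at hδβ
  exact hδβ h

/-- a form of transitivity of the relation. -/
theorem mrel_trans' [Finite Ω] [IsPreprimitive G Ω] (hK : K₀ ≤ stabilizer G α₀)
    (hn : stabilizer G α₀ ≤ Subgroup.normalizer (K₀ : Set G))
    (hep : ∀ (α ω : Ω), IsPreprimitive (stabilizer G α) (orbit (stabilizer G α) ω))
    {α β γ : Ω} (h1 : mrel α₀ K₀ α β) (h2 : mrel α₀ K₀ γ β) : mrel α₀ K₀ α γ := by
  by_contra hnot
  have hnot' : ¬ mrel α₀ K₀ γ α := fun h => hnot (mrel_symm hK hn hep h)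
  let B : Set Ω := {x | ∃ y : G, y • α = α ∧ y • γ = γ ∧ y • β = x}
  have key : ∀ (a c : Ω), mrel α₀ K₀ a β → ¬ mrel α₀ K₀ a c →
      ∀ x : G, x • a = a → ∀ y : G, y • a = a → y • c = c →
        ∃ z : G, z • a = a ∧ z • c = c ∧ z • β = x • y • β := by
    intro a c haβ hac x hx y hy hyc
    obtain ⟨k, hk, hkx⟩ := exists_mK_smul_eq hK hn hep hac (x * y) (by rw [mul_smul, hy, hx])
    have hka : k • a = a := mK_fix hK hk
    refine ⟨k⁻¹ * (x * y), ?_, ?_, ?_⟩
    · rw [mul_smul, mul_smul, hy, hx, inv_smul_eq_iff, hka]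
    · rw [mul_smul, ← hkx, inv_smul_smul]
    · have h3 : (k⁻¹ * (x * y)) • a = a := by
        rw [mul_smul, mul_smul, hy, hx, inv_smul_eq_iff, hka]
      have h4 : mrel α₀ K₀ a ((k⁻¹ * (x * y)) • β) := by
        have := mrel_smul (k⁻¹ * (x * y)) haβ
        rwa [h3] at this
      have h5 := hk _ h4
      rw [← mul_smul, mul_inv_cancel_left] at h5
      rw [← h5, mul_smul]
  have hB1 : ∀ x : G, x • α = α → ∀ b ∈ B, x • b ∈ B := by
    rintro x hx b ⟨y, hyα, hyγ, rfl⟩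
    obtain ⟨z, hz1, hz2, hz3⟩ := key α γ h1 hnot x hx y hyα hyγ
    exact ⟨z, hz1, hz2, hz3⟩
  have hB2 : ∀ x : G, x • γ = γ → ∀ b ∈ B, x • b ∈ B := by
    rintro x hx b ⟨y, hyα, hyγ, rfl⟩
    obtain ⟨z, hz1, hz2, hz3⟩ := key γ α h2 hnot' x hx y hyγ hyα
    exact ⟨z, hz2, hz1, hz3⟩
  have hne : ∃ y : G, y • γ = γ ∧ y • α ≠ α := by
    by_contra hcon
    push Not at hcon
    apply hnot'
    rw [mrel_iff_fixed hn]
    intro x hx
    exact hcon x (mK_fix hK hx)
  have huniv : B = Set.univ :=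
    eq_univ_of_invariant B ⟨β, 1, one_smul _ _, one_smul _ _, one_smul _ _⟩ α γ hB1 hB2 hne
  have hαB : α ∈ B := by rw [huniv]; trivial
  obtain ⟨y, hyα, -, hyβ⟩ := hαB
  have : β = α := by
    have h3 : y • β = y • α := by rw [hyβ, hyα]
    exact MulAction.injective y h3
  rw [this] at h2
  exact hnot' h2

/-- **Manning's theorem**, general form: in an extremely primitive group, a subgroup `K₀` of a
point stabiliser `G_{α₀}` which is normalised by `G_{α₀}` and fixes a second point `ω` fixes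
every point. -/
theorem manning_fixes_all [Finite Ω] [IsPreprimitive G Ω] (hK : K₀ ≤ stabilizer G α₀)
    (hn : stabilizer G α₀ ≤ Subgroup.normalizer (K₀ : Set G))
    (hep : ∀ (α ω : Ω), IsPreprimitive (stabilizer G α) (orbit (stabilizer G α) ω))
    {ω : Ω} (hω : ω ≠ α₀) (hfix : ∀ k ∈ K₀, k • ω = ω) : ∀ k ∈ K₀, ∀ x : Ω, k • x = x := by
  have : Nontrivial Ω := ⟨⟨ω, α₀, hω⟩⟩
  have hco := IsPreprimitive.isCoatom_stabilizer_of_isPreprimitive (G := G) α₀
  have h0 : mrel α₀ K₀ α₀ ω := ⟨1, one_smul _ _, by simpa using hfix⟩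
  let L : Subgroup G :=
    { carrier := {g | mrel α₀ K₀ α₀ (g • α₀)}
      one_mem' := by
        show mrel α₀ K₀ α₀ ((1 : G) • α₀)
        rw [one_smul]; exact mrel_refl hK α₀
      mul_mem' := by
        intro x y hx hy
        show mrel α₀ K₀ α₀ ((x * y) • α₀)
        have h1 : mrel α₀ K₀ (x • α₀) ((x * y) • α₀) := by
          rw [mul_smul]; exact mrel_smul x hy
        exact mrel_trans' hK hn hep hx (mrel_symm hK hn hep h1)
      inv_mem' := by
        intro x hx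
        show mrel α₀ K₀ α₀ (x⁻¹ • α₀)
        have h1 := mrel_smul x⁻¹ hx
        rw [inv_smul_smul] at h1
        exact mrel_symm hK hn hep h1 }
  have hL1 : stabilizer G α₀ ≤ L := by
    intro x hx
    show mrel α₀ K₀ α₀ (x • α₀)
    have hx' : x • α₀ = α₀ := hx
    rw [hx']; exact mrel_refl hK α₀
  obtain ⟨g, hg⟩ := exists_smul_eq G α₀ ω
  have hgL : g ∈ L := by
    show mrel α₀ K₀ α₀ (g • α₀)
    rw [hg]; exact h0
  have hlt : stabilizer G α₀ < L := by
    refine lt_of_le_of_ne hL1 ?_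
    intro h
    have : g ∈ stabilizer G α₀ := by rw [h]; exact hgL
    have h2 : g • α₀ = α₀ := this
    exact hω (hg ▸ h2)
  have hLT : L = ⊤ := hco.2 L hlt
  intro k hk x
  obtain ⟨y, rfl⟩ := exists_smul_eq G α₀ x
  have hy : y ∈ L := by rw [hLT]; trivial
  have hy' : mrel α₀ K₀ α₀ (y • α₀) := hy
  have := mrel_all hn hy' 1 (one_smul _ _) k hk
  simpa using this

/-- Manning's theorem for faithful actions. -/
theorem manning_eq_bot [Finite Ω] [IsPreprimitive G Ω] [FaithfulSMul G Ω]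
    (hK : K₀ ≤ stabilizer G α₀)
    (hn : stabilizer G α₀ ≤ Subgroup.normalizer (K₀ : Set G))
    (hep : ∀ (α ω : Ω), IsPreprimitive (stabilizer G α) (orbit (stabilizer G α) ω))
    {ω : Ω} (hω : ω ≠ α₀) (hfix : ∀ k ∈ K₀, k • ω = ω) : K₀ = ⊥ := by
  rw [Subgroup.eq_bot_iff_forall]
  intro k hk
  apply FaithfulSMul.eq_of_smul_eq_smul (α := Ω)
  intro x
  rw [one_smul]
  exact manning_fixes_all hK hn hep hω hfix k hk x

/-- In an extremely primitive group a non-trivial subgroup `K₀` of `G_{α₀}` normalised by `G_{α₀}`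
has the same orbits as `G_{α₀}`. -/
theorem manning_same_orbits [Finite Ω] [IsPreprimitive G Ω] [FaithfulSMul G Ω]
    (hK : K₀ ≤ stabilizer G α₀)
    (hn : stabilizer G α₀ ≤ Subgroup.normalizer (K₀ : Set G))
    (hep : ∀ (α ω : Ω), IsPreprimitive (stabilizer G α) (orbit (stabilizer G α) ω))
    (hne : K₀ ≠ ⊥) (ω : Ω) (h : G) (hh : h • α₀ = α₀) : ∃ k ∈ K₀, k • ω = h • ω := by
  by_cases hω : ω = α₀
  · subst hω
    exact ⟨1, K₀.one_mem, by rw [one_smul, hh]⟩
  have hprim := hep α₀ ω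
  let N : Subgroup (stabilizer G α₀) := K₀.subgroupOf (stabilizer G α₀)
  have hN : N.Normal := Subgroup.normal_subgroupOf_of_le_normalizer hn
  have hfix : fixedPoints N (orbit (stabilizer G α₀) ω) ≠ Set.univ := by
    intro hall
    apply hne
    apply manning_eq_bot hK hn hep hω
    intro x hx
    have h1 : (⟨ω, mem_orbit_self ω⟩ : orbit (stabilizer G α₀) ω) ∈
        fixedPoints N (orbit (stabilizer G α₀) ω) := by rw [hall]; trivial
    have h2 := h1 ⟨⟨x, hK hx⟩, hx⟩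
    exact congrArg Subtype.val h2
  have htr : IsPretransitive N (orbit (stabilizer G α₀) ω) :=
    IsQuasiPreprimitive.isPretransitive_of_normal hfix
  obtain ⟨n, hn'⟩ := htr.exists_smul_eq (⟨ω, mem_orbit_self ω⟩ : orbit (stabilizer G α₀) ω)
    ⟨h • ω, ⟨⟨h, hh⟩, rfl⟩⟩
  exact ⟨((n : stabilizer G α₀) : G), n.2, congrArg Subtype.val hn'⟩

end Manning

end Cfsg.Agent.Lib.Helper58
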