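import Mathlib

set_option autoImplicit false

/-!
# An explicit copy of `2.S₅⁻` in `GL₄(7)` acting fixed point freely

Matrices are coded by 16 natural numbers; all checks are done on codes by kernel evaluation.
-/

namespace Cfsg.Agent.Lib.Helper58.TwoS5

/-- codes of 4 × 4 matrices. -/
structure C16 where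
  a0 : ℕ
  a1 : ℕ
  a2 : ℕ
  a3 : ℕ
  a4 : ℕ
  a5 : ℕ
  a6 : ℕ
  a7 : ℕ
  a8 : ℕ
  a9 : ℕ
  a10 : ℕ
  a11 : ℕ
  a12 : ℕ
  a13 : ℕ
  a14 : ℕ
  a15 : ℕ
  deriving DecidableEq

/-- product of codes (entries reduced mod 7). -/
def cmul (x y : C16) : C16 :=
  ⟨(x.a0 * y.a0 + x.a1 * y.a4 + x.a2 * y.a8 + x.a3 * y.a12) % 7,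
   (x.a0 * y.a1 + x.a1 * y.a5 + x.a2 * y.a9 + x.a3 * y.a13) % 7,
   (x.a0 * y.a2 + x.a1 * y.a6 + x.a2 * y.a10 + x.a3 * y.a14) % 7,
   (x.a0 * y.a3 + x.a1 * y.a7 + x.a2 * y.a11 + x.a3 * y.a15) % 7,
   (x.a4 * y.a0 + x.a5 * y.a4 + x.a6 * y.a8 + x.a7 * y.a12) % 7,
   (x.a4 * y.a1 + x.a5 * y.a5 + x.a6 * y.a9 + x.a7 * y.a13) % 7,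
   (x.a4 * y.a2 + x.a5 * y.a6 + x.a6 * y.a10 + x.a7 * y.a14) % 7,
   (x.a4 * y.a3 + x.a5 * y.a7 + x.a6 * y.a11 + x.a7 * y.a15) % 7,
   (x.a8 * y.a0 + x.a9 * y.a4 + x.a10 * y.a8 + x.a11 * y.a12) % 7,
   (x.a8 * y.a1 + x.a9 * y.a5 + x.a10 * y.a9 + x.a11 * y.a13) % 7,
   (x.a8 * y.a2 + x.a9 * y.a6 + x.a10 * y.a10 + x.a11 * y.a14) % 7,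
   (x.a8 * y.a3 + x.a9 * y.a7 + x.a10 * y.a11 + x.a11 * y.a15) % 7,
   (x.a12 * y.a0 + x.a13 * y.a4 + x.a14 * y.a8 + x.a15 * y.a12) % 7,
   (x.a12 * y.a1 + x.a13 * y.a5 + x.a14 * y.a9 + x.a15 * y.a13) % 7,
   (x.a12 * y.a2 + x.a13 * y.a6 + x.a14 * y.a10 + x.a15 * y.a14) % 7,
   (x.a12 * y.a3 + x.a13 * y.a7 + x.a14 * y.a11 + x.a15 * y.a15) % 7⟩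

/-- sum of codes (entries reduced mod 7). -/
def cadd (x y : C16) : C16 :=
  ⟨(x.a0 + y.a0) % 7,
   (x.a1 + y.a1) % 7,
   (x.a2 + y.a2) % 7,
   (x.a3 + y.a3) % 7,
   (x.a4 + y.a4) % 7,
   (x.a5 + y.a5) % 7,
   (x.a6 + y.a6) % 7,
   (x.a7 + y.a7) % 7,
   (x.a8 + y.a8) % 7,
   (x.a9 + y.a9) % 7,
   (x.a10 + y.a10) % 7,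
   (x.a11 + y.a11) % 7,
   (x.a12 + y.a12) % 7,
   (x.a13 + y.a13) % 7,
   (x.a14 + y.a14) % 7,
   (x.a15 + y.a15) % 7⟩

def cone : C16 := ⟨1, 0, 0, 0, 0, 1, 0, 0, 0, 0, 1, 0, 0, 0, 0, 1⟩

def cnegone : C16 := ⟨6, 0, 0, 0, 0, 6, 0, 0, 0, 0, 6, 0, 0, 0, 0, 6⟩

def czero : C16 := ⟨0, 0, 0, 0, 0, 0, 0, 0, 0, 0, 0, 0, 0, 0, 0, 0⟩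

def ca : C16 := ⟨0, 0, 2, 3, 0, 0, 3, 5, 5, 4, 5, 6, 4, 2, 6, 2⟩

def cb : C16 := ⟨0, 0, 0, 6, 0, 0, 1, 0, 0, 6, 4, 5, 1, 0, 2, 4⟩

def cpow (x : C16) : ℕ → C16
  | 0 => cone
  | n + 1 => cmul (cpow x n) x

/-- the list of codes of the 240 elements. -/
def cL : List C16 :=
  [⟨1, 0, 0, 0, 0, 1, 0, 0, 0, 0, 1, 0, 0, 0, 0, 1⟩,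
   ⟨0, 0, 2, 3, 0, 0, 3, 5, 5, 4, 5, 6, 4, 2, 6, 2⟩,
   ⟨0, 0, 0, 6, 0, 0, 1, 0, 0, 6, 4, 5, 1, 0, 2, 4⟩,
   ⟨1, 0, 0, 4, 0, 1, 3, 0, 0, 4, 6, 0, 3, 0, 0, 6⟩,
   ⟨3, 5, 0, 1, 5, 4, 1, 0, 6, 2, 1, 2, 2, 1, 2, 6⟩,
   ⟨3, 5, 1, 5, 5, 4, 5, 6, 5, 5, 5, 1, 5, 2, 1, 2⟩,
   ⟨6, 0, 5, 3, 0, 6, 4, 5, 5, 3, 4, 5, 4, 5, 2, 4⟩,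
   ⟨2, 1, 5, 4, 1, 5, 4, 2, 2, 3, 0, 0, 3, 5, 0, 0⟩,
   ⟨4, 0, 1, 1, 0, 4, 6, 1, 0, 1, 0, 2, 6, 0, 5, 0⟩,
   ⟨4, 2, 6, 1, 5, 4, 6, 6, 6, 1, 0, 3, 6, 6, 4, 0⟩,
   ⟨1, 0, 0, 1, 0, 6, 1, 0, 2, 6, 3, 0, 6, 5, 0, 4⟩,
   ⟨4, 0, 0, 1, 0, 4, 6, 0, 1, 1, 0, 2, 6, 1, 5, 0⟩,
   ⟨5, 6, 5, 1, 6, 2, 1, 2, 1, 2, 6, 3, 2, 6, 3, 1⟩,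
   ⟨2, 5, 6, 5, 5, 5, 5, 1, 5, 5, 6, 1, 5, 2, 1, 1⟩,
   ⟨3, 2, 5, 3, 5, 3, 4, 5, 5, 3, 1, 0, 4, 5, 0, 1⟩,
   ⟨6, 0, 0, 0, 0, 6, 0, 0, 0, 0, 6, 0, 0, 0, 0, 6⟩,
   ⟨4, 2, 1, 4, 2, 3, 4, 6, 0, 0, 3, 5, 0, 0, 5, 4⟩,
   ⟨2, 6, 5, 6, 6, 5, 6, 2, 1, 4, 1, 2, 4, 6, 2, 6⟩,
   ⟨1, 6, 6, 5, 1, 1, 2, 6, 2, 0, 5, 1, 0, 2, 6, 5⟩,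
   ⟨6, 5, 1, 4, 5, 1, 4, 6, 5, 6, 5, 1, 6, 2, 1, 2⟩,
   ⟨1, 1, 0, 2, 6, 1, 5, 0, 3, 0, 0, 6, 0, 3, 1, 0⟩,
   ⟨4, 2, 1, 5, 5, 4, 2, 1, 1, 5, 2, 5, 2, 1, 2, 2⟩,
   ⟨1, 0, 2, 3, 0, 6, 3, 5, 0, 4, 4, 6, 4, 0, 6, 3⟩,
   ⟨4, 2, 0, 0, 2, 3, 0, 0, 1, 4, 3, 5, 4, 6, 5, 4⟩,
   ⟨1, 0, 2, 0, 0, 1, 0, 2, 2, 0, 5, 0, 0, 2, 0, 5⟩,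
   ⟨1, 1, 3, 0, 6, 1, 0, 3, 0, 2, 0, 6, 5, 0, 1, 0⟩,
   ⟨1, 2, 0, 3, 2, 6, 3, 0, 3, 1, 4, 6, 1, 4, 6, 3⟩,
   ⟨1, 6, 2, 0, 1, 1, 0, 2, 6, 5, 5, 1, 2, 6, 6, 5⟩,
   ⟨5, 1, 4, 6, 1, 2, 6, 3, 1, 1, 3, 1, 1, 6, 1, 4⟩,
   ⟨2, 5, 6, 6, 5, 5, 6, 1, 5, 4, 3, 1, 4, 2, 1, 4⟩,
   ⟨3, 2, 0, 6, 5, 3, 1, 0, 0, 6, 0, 0, 1, 0, 0, 0⟩,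
   ⟨0, 0, 5, 4, 0, 0, 4, 2, 2, 3, 2, 1, 3, 5, 1, 5⟩,
   ⟨0, 0, 0, 1, 0, 0, 6, 0, 0, 1, 3, 2, 6, 0, 5, 3⟩,
   ⟨0, 5, 1, 1, 2, 0, 6, 1, 0, 1, 3, 0, 6, 0, 0, 3⟩,
   ⟨4, 6, 0, 3, 6, 3, 3, 0, 5, 4, 1, 0, 4, 2, 0, 6⟩,
   ⟨0, 4, 6, 1, 3, 0, 6, 6, 6, 1, 3, 5, 6, 6, 2, 3⟩,
   ⟨6, 2, 3, 5, 2, 1, 5, 4, 2, 6, 5, 5, 6, 5, 5, 2⟩,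
   ⟨1, 6, 3, 2, 6, 6, 2, 4, 1, 1, 0, 3, 1, 6, 3, 0⟩,
   ⟨5, 1, 5, 0, 6, 5, 0, 5, 1, 2, 1, 6, 5, 1, 1, 1⟩,
   ⟨0, 5, 0, 1, 2, 0, 6, 0, 1, 1, 3, 0, 6, 1, 0, 3⟩,
   ⟨4, 6, 3, 1, 6, 3, 1, 4, 1, 2, 0, 3, 2, 6, 3, 0⟩,
   ⟨1, 4, 3, 5, 4, 6, 5, 4, 3, 5, 0, 0, 5, 4, 0, 0⟩,
   ⟨2, 0, 5, 0, 0, 2, 0, 5, 6, 0, 5, 0, 0, 6, 0, 5⟩,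
   ⟨4, 0, 0, 3, 0, 3, 3, 0, 2, 4, 1, 1, 4, 5, 1, 6⟩,
   ⟨5, 6, 2, 0, 1, 5, 0, 2, 5, 5, 2, 1, 2, 5, 6, 2⟩,
   ⟨3, 5, 0, 0, 5, 4, 0, 0, 6, 3, 4, 2, 3, 1, 2, 3⟩,
   ⟨3, 1, 5, 1, 1, 4, 1, 2, 4, 6, 1, 1, 6, 3, 1, 6⟩,
   ⟨0, 5, 1, 2, 2, 0, 5, 1, 0, 2, 6, 2, 5, 0, 5, 6⟩,
   ⟨1, 5, 6, 5, 5, 6, 5, 1, 3, 5, 0, 1, 5, 4, 1, 0⟩,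
   ⟨0, 4, 6, 0, 3, 0, 0, 6, 6, 0, 0, 3, 0, 6, 4, 0⟩,
   ⟨5, 6, 5, 5, 1, 5, 2, 5, 2, 0, 2, 1, 0, 2, 6, 2⟩,
   ⟨3, 0, 1, 4, 0, 4, 4, 6, 6, 3, 1, 6, 3, 1, 6, 6⟩,
   ⟨3, 1, 2, 3, 1, 4, 3, 5, 1, 1, 2, 5, 1, 6, 5, 5⟩,
   ⟨0, 5, 0, 2, 2, 0, 5, 0, 1, 2, 6, 2, 5, 1, 5, 6⟩,
   ⟨2, 0, 6, 0, 0, 2, 0, 6, 5, 0, 5, 0, 0, 5, 0, 5⟩,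
   ⟨6, 3, 1, 4, 3, 1, 4, 6, 1, 4, 1, 4, 4, 6, 4, 6⟩,
   ⟨5, 1, 1, 2, 6, 5, 5, 1, 5, 0, 1, 6, 0, 5, 1, 1⟩,
   ⟨6, 1, 6, 3, 1, 1, 3, 1, 1, 4, 4, 0, 4, 6, 0, 3⟩,
   ⟨3, 5, 6, 3, 5, 4, 3, 1, 0, 0, 4, 2, 0, 0, 2, 3⟩,
   ⟨6, 0, 0, 3, 0, 6, 4, 0, 0, 3, 1, 0, 4, 0, 0, 1⟩,
   ⟨4, 2, 0, 6, 2, 3, 6, 0, 1, 5, 6, 5, 5, 6, 5, 1⟩,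
   ⟨4, 2, 6, 2, 2, 3, 2, 1, 2, 2, 2, 6, 2, 5, 6, 5⟩,
   ⟨1, 0, 2, 4, 0, 1, 3, 2, 2, 4, 3, 2, 3, 2, 5, 3⟩,
   ⟨2, 6, 5, 5, 6, 5, 5, 2, 1, 5, 4, 2, 5, 6, 2, 3⟩,
   ⟨1, 6, 4, 2, 1, 1, 5, 4, 0, 4, 6, 1, 3, 0, 6, 6⟩,
   ⟨5, 6, 2, 6, 1, 5, 1, 2, 5, 4, 6, 6, 3, 5, 1, 6⟩,
   ⟨3, 0, 5, 1, 0, 4, 1, 2, 0, 6, 1, 0, 6, 0, 0, 6⟩,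
   ⟨6, 5, 6, 2, 5, 1, 2, 1, 0, 1, 4, 2, 1, 0, 2, 3⟩,
   ⟨1, 1, 2, 6, 6, 1, 1, 2, 5, 4, 2, 1, 3, 5, 6, 2⟩,
   ⟨0, 1, 0, 0, 6, 0, 0, 0, 3, 2, 0, 6, 5, 3, 1, 0⟩,
   ⟨5, 4, 3, 1, 4, 2, 1, 4, 5, 2, 1, 1, 2, 2, 1, 6⟩,
   ⟨2, 2, 5, 6, 5, 2, 1, 5, 5, 6, 2, 0, 1, 5, 0, 2⟩,
   ⟨2, 4, 1, 1, 4, 5, 1, 6, 3, 0, 0, 4, 0, 4, 4, 0⟩,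
   ⟨0, 2, 0, 6, 5, 0, 1, 0, 6, 6, 4, 0, 1, 6, 0, 4⟩,
   ⟨5, 0, 5, 6, 0, 5, 1, 5, 5, 6, 5, 5, 1, 5, 2, 5⟩,
   ⟨1, 4, 6, 1, 4, 6, 1, 1, 3, 0, 1, 4, 0, 4, 4, 6⟩,
   ⟨0, 1, 3, 2, 6, 0, 5, 3, 0, 0, 0, 6, 0, 0, 1, 0⟩,
   ⟨5, 4, 5, 6, 4, 2, 6, 2, 0, 0, 5, 4, 0, 0, 4, 2⟩,
   ⟨4, 6, 1, 1, 6, 3, 1, 6, 4, 6, 2, 6, 6, 3, 6, 5⟩,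
   ⟨0, 2, 6, 2, 5, 0, 5, 6, 0, 2, 6, 5, 5, 0, 2, 6⟩,
   ⟨5, 6, 5, 4, 1, 5, 3, 5, 2, 6, 6, 6, 1, 2, 1, 6⟩,
   ⟨3, 0, 6, 1, 0, 4, 1, 1, 1, 6, 3, 0, 6, 6, 0, 4⟩,
   ⟨3, 1, 3, 1, 1, 4, 1, 4, 0, 3, 6, 5, 3, 0, 5, 1⟩,
   ⟨0, 5, 0, 5, 2, 0, 2, 0, 1, 5, 1, 2, 2, 1, 5, 1⟩,
   ⟨1, 1, 5, 4, 6, 1, 3, 5, 2, 6, 2, 1, 1, 2, 6, 2⟩,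
   ⟨1, 2, 2, 5, 2, 6, 5, 5, 1, 6, 5, 5, 6, 6, 5, 2⟩,
   ⟨6, 1, 4, 0, 1, 1, 0, 3, 3, 0, 6, 1, 0, 4, 1, 1⟩,
   ⟨2, 6, 6, 6, 1, 2, 1, 6, 2, 1, 2, 3, 6, 2, 4, 2⟩,
   ⟨1, 6, 0, 4, 1, 1, 3, 0, 4, 2, 6, 1, 5, 4, 6, 6⟩,
   ⟨5, 1, 4, 0, 1, 2, 0, 3, 1, 0, 0, 1, 0, 6, 1, 0⟩,
   ⟨2, 3, 0, 0, 3, 5, 0, 0, 5, 6, 2, 3, 6, 2, 3, 5⟩,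
   ⟨0, 1, 0, 2, 6, 0, 5, 0, 3, 0, 6, 6, 0, 3, 1, 6⟩,
   ⟨3, 2, 6, 1, 2, 4, 1, 1, 0, 3, 6, 6, 3, 0, 6, 1⟩,
   ⟨5, 2, 1, 5, 5, 5, 2, 1, 1, 5, 3, 5, 2, 1, 2, 3⟩,
   ⟨4, 6, 5, 4, 6, 3, 4, 2, 6, 6, 5, 2, 6, 1, 2, 2⟩,
   ⟨2, 0, 2, 1, 0, 2, 6, 2, 2, 1, 2, 2, 6, 2, 5, 2⟩,
   ⟨2, 3, 6, 0, 3, 5, 0, 1, 4, 6, 0, 3, 6, 3, 3, 0⟩,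
   ⟨0, 1, 3, 0, 6, 0, 0, 3, 0, 2, 6, 6, 5, 0, 1, 6⟩,
   ⟨0, 5, 1, 5, 2, 0, 2, 1, 0, 5, 1, 2, 2, 0, 5, 1⟩,
   ⟨6, 1, 2, 2, 1, 1, 2, 5, 1, 2, 2, 5, 2, 6, 5, 5⟩,
   ⟨2, 6, 2, 1, 1, 2, 6, 2, 6, 6, 2, 3, 1, 6, 4, 2⟩,
   ⟨0, 2, 0, 2, 5, 0, 5, 0, 6, 2, 6, 5, 5, 6, 2, 6⟩,
   ⟨0, 2, 6, 6, 5, 0, 1, 6, 0, 6, 4, 0, 1, 0, 0, 4⟩,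
   ⟨3, 1, 0, 4, 1, 4, 4, 0, 2, 3, 6, 0, 3, 5, 0, 1⟩,
   ⟨5, 6, 2, 3, 6, 2, 3, 5, 5, 4, 0, 0, 4, 2, 0, 0⟩,
   ⟨3, 0, 6, 6, 0, 3, 1, 6, 0, 6, 0, 5, 1, 0, 2, 0⟩,
   ⟨3, 5, 1, 6, 2, 3, 1, 1, 1, 6, 0, 4, 1, 1, 3, 0⟩,
   ⟨6, 0, 0, 6, 0, 1, 6, 0, 5, 1, 4, 0, 1, 2, 0, 3⟩,
   ⟨3, 0, 0, 6, 0, 3, 1, 0, 6, 6, 0, 5, 1, 6, 2, 0⟩,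
   ⟨2, 1, 2, 6, 1, 5, 6, 5, 6, 5, 1, 4, 5, 1, 4, 6⟩,
   ⟨5, 2, 1, 2, 2, 2, 2, 6, 2, 2, 1, 6, 2, 5, 6, 6⟩,
   ⟨4, 5, 2, 4, 2, 4, 3, 2, 2, 4, 6, 0, 3, 2, 0, 6⟩,
   ⟨5, 2, 1, 1, 2, 2, 1, 6, 2, 3, 4, 6, 3, 5, 6, 3⟩,
   ⟨0, 6, 3, 5, 6, 0, 5, 4, 6, 5, 6, 2, 5, 1, 2, 1⟩,
   ⟨2, 3, 5, 6, 4, 2, 1, 5, 1, 1, 2, 6, 6, 1, 1, 2⟩,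
   ⟨6, 6, 4, 6, 6, 1, 6, 3, 5, 1, 4, 6, 1, 2, 6, 3⟩,
   ⟨6, 5, 5, 1, 2, 6, 6, 5, 6, 1, 5, 0, 6, 6, 0, 5⟩,
   ⟨1, 2, 1, 5, 2, 6, 5, 6, 0, 6, 3, 5, 6, 0, 5, 4⟩,
   ⟨6, 6, 2, 4, 6, 1, 4, 5, 0, 3, 3, 0, 3, 0, 0, 4⟩,
   ⟨6, 5, 0, 5, 2, 6, 2, 0, 1, 5, 0, 2, 2, 1, 5, 0⟩,
   ⟨0, 0, 3, 5, 0, 0, 5, 4, 3, 5, 6, 3, 5, 4, 3, 1⟩,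
   ⟨0, 0, 1, 0, 0, 0, 0, 1, 6, 0, 0, 0, 0, 6, 0, 0⟩,
   ⟨5, 0, 1, 6, 0, 5, 1, 1, 2, 6, 6, 5, 1, 2, 2, 6⟩,
   ⟨1, 4, 4, 0, 4, 6, 0, 3, 1, 6, 1, 4, 6, 6, 4, 6⟩,
   ⟨0, 4, 1, 2, 4, 0, 2, 6, 3, 1, 3, 1, 1, 4, 1, 4⟩,
   ⟨6, 2, 6, 5, 5, 6, 2, 6, 0, 5, 0, 5, 2, 0, 2, 0⟩,
   ⟨1, 6, 3, 0, 6, 6, 0, 4, 4, 0, 1, 6, 0, 3, 6, 6⟩,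
   ⟨0, 4, 1, 1, 4, 0, 1, 6, 3, 2, 6, 1, 2, 4, 1, 1⟩,
   ⟨6, 2, 4, 2, 5, 6, 5, 4, 5, 2, 1, 5, 5, 5, 2, 1⟩,
   ⟨6, 5, 1, 5, 2, 6, 2, 1, 0, 5, 0, 2, 2, 0, 5, 0⟩,
   ⟨1, 1, 2, 5, 1, 6, 5, 5, 4, 6, 5, 4, 6, 3, 4, 2⟩,
   ⟨2, 2, 2, 6, 2, 5, 6, 5, 3, 5, 1, 5, 5, 4, 5, 6⟩,
   ⟨2, 4, 3, 2, 3, 2, 5, 3, 6, 0, 5, 3, 0, 6, 4, 5⟩,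
   ⟨6, 2, 1, 2, 2, 1, 2, 6, 4, 2, 0, 6, 2, 3, 6, 0⟩,
   ⟨1, 6, 5, 5, 6, 6, 5, 2, 6, 5, 5, 2, 5, 1, 2, 2⟩,
   ⟨2, 1, 2, 3, 6, 2, 4, 2, 5, 1, 1, 1, 6, 5, 6, 1⟩,
   ⟨1, 1, 5, 3, 1, 6, 3, 2, 0, 4, 4, 0, 4, 0, 0, 3⟩,
   ⟨5, 0, 2, 6, 0, 5, 1, 2, 1, 6, 6, 5, 1, 1, 2, 6⟩,
   ⟨1, 4, 1, 2, 4, 6, 2, 6, 5, 1, 2, 1, 1, 2, 1, 5⟩,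
   ⟨6, 3, 3, 0, 3, 1, 0, 4, 6, 1, 6, 3, 1, 1, 3, 1⟩,
   ⟨6, 0, 5, 4, 0, 1, 4, 2, 0, 3, 3, 1, 3, 0, 1, 4⟩,
   ⟨2, 4, 6, 0, 3, 2, 0, 6, 3, 2, 5, 3, 5, 3, 4, 5⟩,
   ⟨5, 5, 6, 1, 5, 2, 1, 1, 5, 2, 1, 2, 2, 2, 2, 6⟩,
   ⟨6, 2, 0, 5, 5, 6, 2, 0, 6, 5, 0, 5, 2, 6, 2, 0⟩,
   ⟨0, 3, 3, 0, 3, 0, 0, 4, 1, 1, 5, 3, 1, 6, 3, 2⟩,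
   ⟨6, 1, 0, 3, 6, 6, 4, 0, 3, 5, 1, 6, 2, 3, 1, 1⟩,
   ⟨6, 2, 5, 2, 5, 6, 5, 5, 4, 2, 1, 5, 5, 4, 2, 1⟩,
   ⟨0, 3, 3, 1, 3, 0, 1, 4, 1, 0, 2, 3, 0, 6, 3, 5⟩,
   ⟨0, 0, 6, 0, 0, 0, 0, 6, 1, 0, 0, 0, 0, 1, 0, 0⟩,
   ⟨2, 0, 5, 1, 0, 2, 6, 5, 6, 1, 1, 2, 6, 6, 5, 1⟩,
   ⟨6, 5, 6, 1, 2, 6, 6, 6, 5, 1, 5, 0, 6, 5, 0, 5⟩,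
   ⟨1, 1, 0, 3, 1, 6, 3, 0, 6, 1, 4, 5, 1, 1, 5, 3⟩,
   ⟨4, 0, 2, 6, 0, 3, 6, 5, 0, 1, 6, 0, 1, 0, 0, 1⟩,
   ⟨0, 3, 6, 6, 3, 0, 6, 1, 4, 5, 1, 6, 5, 3, 6, 6⟩,
   ⟨1, 5, 3, 5, 2, 1, 2, 3, 2, 5, 6, 2, 2, 2, 5, 6⟩,
   ⟨2, 3, 1, 1, 4, 2, 6, 1, 5, 6, 2, 6, 1, 5, 1, 2⟩,
   ⟨0, 1, 6, 0, 1, 0, 0, 1, 3, 0, 5, 1, 0, 4, 1, 2⟩,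
   ⟨1, 5, 4, 2, 5, 6, 2, 3, 5, 1, 2, 2, 1, 2, 2, 5⟩,
   ⟨4, 0, 1, 6, 0, 3, 6, 6, 6, 1, 4, 0, 1, 1, 0, 3⟩,
   ⟨1, 5, 2, 5, 2, 1, 2, 2, 3, 5, 6, 2, 2, 3, 5, 6⟩,
   ⟨2, 0, 6, 1, 0, 2, 6, 6, 5, 1, 1, 2, 6, 5, 5, 1⟩,
   ⟨5, 1, 2, 2, 1, 2, 2, 5, 6, 2, 3, 5, 2, 1, 5, 4⟩,
   ⟨6, 1, 3, 5, 6, 6, 2, 3, 0, 3, 1, 6, 4, 0, 1, 1⟩,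
   ⟨2, 1, 5, 1, 6, 2, 6, 5, 2, 3, 1, 1, 4, 2, 6, 1⟩,
   ⟨5, 1, 2, 1, 1, 2, 1, 5, 6, 3, 6, 5, 3, 1, 5, 1⟩,
   ⟨6, 1, 1, 2, 6, 6, 5, 1, 5, 0, 2, 6, 0, 5, 1, 2⟩,
   ⟨1, 2, 6, 3, 2, 6, 3, 1, 2, 1, 2, 6, 1, 5, 6, 5⟩,
   ⟨6, 6, 0, 5, 1, 6, 2, 0, 4, 0, 0, 1, 0, 4, 6, 0⟩,
   ⟨3, 5, 6, 2, 2, 3, 5, 6, 6, 2, 5, 2, 5, 6, 5, 5⟩,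
   ⟨6, 0, 5, 0, 0, 6, 0, 5, 5, 0, 2, 0, 0, 5, 0, 2⟩,
   ⟨6, 6, 4, 0, 1, 6, 0, 4, 0, 5, 0, 1, 2, 0, 6, 0⟩,
   ⟨6, 5, 0, 4, 5, 1, 4, 0, 4, 6, 3, 1, 6, 3, 1, 4⟩,
   ⟨6, 1, 5, 0, 6, 6, 0, 5, 1, 2, 2, 6, 5, 1, 1, 2⟩,
   ⟨2, 6, 3, 1, 6, 5, 1, 4, 6, 6, 4, 6, 6, 1, 6, 3⟩,
   ⟨4, 5, 0, 1, 2, 4, 6, 0, 0, 1, 0, 0, 6, 0, 0, 0⟩,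
   ⟨2, 6, 6, 5, 1, 2, 2, 6, 2, 0, 6, 1, 0, 2, 6, 6⟩,
   ⟨1, 6, 1, 4, 6, 6, 4, 6, 6, 3, 3, 0, 3, 1, 0, 4⟩,
   ⟨5, 4, 0, 0, 4, 2, 0, 0, 2, 1, 5, 4, 1, 5, 4, 2⟩,
   ⟨0, 4, 4, 0, 4, 0, 0, 3, 6, 6, 2, 4, 6, 1, 4, 5⟩,
   ⟨2, 0, 2, 0, 0, 2, 0, 2, 2, 0, 6, 0, 0, 2, 0, 6⟩,
   ⟨6, 3, 6, 3, 3, 1, 3, 1, 6, 3, 1, 4, 3, 1, 4, 6⟩,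
   ⟨1, 2, 6, 2, 5, 1, 5, 6, 0, 2, 0, 5, 5, 0, 2, 0⟩,
   ⟨4, 5, 1, 6, 5, 3, 6, 6, 0, 4, 1, 1, 4, 0, 1, 6⟩,
   ⟨5, 0, 1, 0, 0, 5, 0, 1, 2, 0, 2, 0, 0, 2, 0, 2⟩,
   ⟨5, 4, 1, 0, 4, 2, 0, 6, 3, 1, 0, 4, 1, 4, 4, 0⟩,
   ⟨0, 6, 4, 5, 1, 0, 2, 4, 0, 0, 0, 1, 0, 0, 6, 0⟩,
   ⟨6, 6, 2, 3, 1, 6, 4, 2, 5, 1, 5, 6, 6, 5, 1, 5⟩,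
   ⟨0, 3, 6, 5, 3, 0, 5, 1, 4, 6, 4, 6, 6, 3, 6, 3⟩,
   ⟨1, 5, 0, 2, 2, 1, 5, 0, 1, 2, 0, 2, 5, 1, 5, 0⟩,
   ⟨2, 6, 2, 0, 1, 2, 0, 2, 6, 5, 6, 1, 2, 6, 6, 6⟩,
   ⟨0, 6, 1, 0, 6, 0, 0, 6, 4, 0, 2, 6, 0, 3, 6, 5⟩,
   ⟨4, 0, 6, 3, 0, 3, 3, 1, 1, 4, 6, 1, 4, 6, 1, 1⟩,
   ⟨5, 5, 5, 1, 5, 2, 1, 2, 4, 2, 6, 2, 2, 3, 2, 1⟩,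
   ⟨2, 2, 1, 6, 2, 5, 6, 6, 2, 5, 6, 5, 5, 5, 5, 1⟩,
   ⟨2, 6, 3, 0, 6, 5, 0, 4, 6, 0, 0, 6, 0, 1, 6, 0⟩,
   ⟨2, 5, 6, 2, 2, 2, 5, 6, 6, 2, 4, 2, 5, 6, 5, 4⟩,
   ⟨6, 6, 0, 4, 6, 1, 4, 0, 1, 6, 3, 2, 6, 6, 2, 4⟩,
   ⟨1, 5, 1, 2, 2, 1, 5, 1, 0, 2, 0, 2, 5, 0, 5, 0⟩,
   ⟨2, 3, 4, 6, 3, 5, 6, 3, 2, 5, 6, 6, 5, 5, 6, 1⟩,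
   ⟨1, 1, 3, 1, 1, 6, 1, 4, 2, 6, 3, 1, 6, 5, 1, 4⟩,
   ⟨5, 0, 5, 0, 0, 5, 0, 5, 5, 0, 1, 0, 0, 5, 0, 1⟩,
   ⟨5, 3, 6, 6, 3, 2, 6, 1, 4, 0, 0, 3, 0, 3, 3, 0⟩,
   ⟨5, 0, 2, 0, 0, 5, 0, 2, 1, 0, 2, 0, 0, 1, 0, 2⟩,
   ⟨2, 3, 2, 1, 3, 5, 1, 5, 0, 0, 2, 3, 0, 0, 3, 5⟩,
   ⟨1, 2, 1, 6, 5, 1, 1, 1, 2, 6, 2, 0, 1, 2, 0, 2⟩,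
   ⟨3, 0, 0, 4, 0, 4, 4, 0, 5, 3, 6, 6, 3, 2, 6, 1⟩,
   ⟨6, 6, 5, 1, 1, 6, 6, 5, 2, 3, 5, 6, 4, 2, 1, 5⟩,
   ⟨6, 1, 4, 5, 1, 1, 5, 3, 6, 6, 0, 4, 6, 1, 4, 0⟩,
   ⟨5, 4, 6, 6, 3, 5, 1, 6, 2, 1, 5, 1, 6, 2, 6, 5⟩,
   ⟨0, 1, 4, 2, 1, 0, 2, 3, 1, 2, 1, 5, 2, 6, 5, 6⟩,
   ⟨0, 6, 0, 0, 1, 0, 0, 0, 4, 5, 0, 1, 2, 4, 6, 0⟩,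
   ⟨1, 2, 0, 2, 5, 1, 5, 0, 6, 2, 0, 5, 5, 6, 2, 0⟩,
   ⟨5, 5, 2, 1, 2, 5, 6, 2, 2, 1, 5, 0, 6, 2, 0, 5⟩,
   ⟨6, 5, 5, 2, 5, 1, 2, 2, 6, 1, 2, 2, 1, 1, 2, 5⟩,
   ⟨5, 4, 2, 1, 3, 5, 6, 2, 6, 6, 5, 1, 1, 6, 6, 5⟩,
   ⟨1, 2, 2, 6, 5, 1, 1, 2, 1, 6, 2, 0, 1, 1, 0, 2⟩,
   ⟨0, 3, 1, 6, 4, 0, 1, 1, 1, 6, 4, 2, 1, 1, 5, 4⟩,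
   ⟨3, 1, 4, 6, 1, 4, 6, 3, 6, 5, 0, 4, 5, 1, 4, 0⟩,
   ⟨6, 3, 4, 2, 3, 1, 2, 3, 4, 2, 0, 0, 2, 3, 0, 0⟩,
   ⟨2, 1, 5, 0, 6, 2, 0, 5, 2, 2, 5, 6, 5, 2, 1, 5⟩,
   ⟨4, 6, 2, 6, 6, 3, 6, 5, 3, 1, 6, 6, 1, 4, 6, 1⟩,
   ⟨0, 2, 6, 5, 5, 0, 2, 6, 0, 5, 1, 5, 2, 0, 2, 1⟩,
   ⟨0, 3, 1, 0, 4, 0, 0, 1, 1, 0, 0, 4, 0, 1, 3, 0⟩,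
   ⟨2, 1, 2, 2, 6, 2, 5, 2, 5, 0, 5, 6, 0, 5, 1, 5⟩,
   ⟨0, 2, 0, 5, 5, 0, 2, 0, 6, 5, 1, 5, 2, 6, 2, 1⟩,
   ⟨1, 4, 6, 3, 4, 6, 3, 1, 6, 3, 6, 3, 3, 1, 3, 1⟩,
   ⟨5, 1, 5, 6, 6, 5, 1, 5, 1, 1, 5, 4, 6, 1, 3, 5⟩,
   ⟨4, 6, 4, 6, 6, 3, 6, 3, 0, 4, 1, 2, 4, 0, 2, 6⟩,
   ⟨0, 0, 4, 2, 0, 0, 2, 3, 4, 2, 1, 4, 2, 3, 4, 6⟩,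
   ⟨0, 6, 4, 0, 1, 0, 0, 4, 0, 5, 1, 1, 2, 0, 6, 1⟩,
   ⟨5, 3, 4, 5, 4, 5, 2, 4, 1, 0, 2, 4, 0, 1, 3, 2⟩,
   ⟨1, 4, 1, 4, 4, 6, 4, 6, 1, 4, 6, 3, 4, 6, 3, 1⟩,
   ⟨0, 4, 4, 6, 4, 0, 6, 3, 6, 0, 5, 4, 0, 1, 4, 2⟩,
   ⟨5, 1, 1, 1, 6, 5, 6, 1, 5, 6, 5, 4, 1, 5, 3, 5⟩,
   ⟨3, 1, 6, 6, 1, 4, 6, 1, 3, 1, 5, 1, 1, 4, 1, 2⟩,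
   ⟨0, 6, 0, 5, 1, 0, 2, 0, 4, 0, 1, 1, 0, 4, 6, 1⟩,
   ⟨5, 3, 1, 0, 4, 5, 0, 1, 4, 5, 2, 4, 2, 4, 3, 2⟩,
   ⟨6, 6, 5, 2, 6, 1, 2, 2, 3, 1, 2, 3, 1, 4, 3, 5⟩,
   ⟨6, 3, 1, 6, 3, 1, 6, 6, 4, 0, 6, 3, 0, 3, 3, 1⟩,
   ⟨6, 3, 6, 5, 3, 1, 5, 1, 2, 6, 5, 6, 6, 5, 6, 2⟩]

/-- the property checked on each code. -/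
def cP (c : C16) : Prop :=
  c = cone ∨ cpow c 4 = cnegone ∨ cpow c 5 = cnegone ∨ cpow c 6 = cnegone ∨ cpow c 3 = cnegone ∨
    (cpow c 3 = cone ∧ cadd cone (cadd c (cpow c 2)) = czero) ∨
    (cpow c 5 = cone ∧ cadd cone (cadd c (cadd (cpow c 2) (cadd (cpow c 3) (cpow c 4)))) = czero)

instance cP_decidable (c : C16) : Decidable (cP c) := by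
  unfold cP; infer_instance

theorem cL_closed : ∀ c ∈ cL, cmul c ca ∈ cL ∧ cmul c cb ∈ cL := by
  decide +kernel

theorem cL_cP : ∀ c ∈ cL, cP c := by
  decide +kernel

theorem cone_mem : cone ∈ cL := by
  decide +kernel

end Cfsg.Agent.Lib.Helper58.TwoS5
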